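import Groth.Agent.K0Hom.Sec
import Groth.Agent.CycK0.GysSec
import Groth.Agent.CycK0.Killed

/-!
Base change for the direct image of modules along a closed immersion.
-/

set_option autoImplicit false
set_option linter.style.haveILetI false
set_option linter.unusedSectionVars false
set_option backward.isDefEq.respectTransparency false
set_option backward.isDefEq.respectTransparency.types false

universe u

open CategoryTheory CategoryTheory.Limits AlgebraicGeometry TopologicalSpace Opposite TensorProduct
open Groth.Agent.WeakAssLib (mgerm mgerm_smul)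

noncomputable section

attribute [local instance] Abelian.hasFiniteBiproducts

namespace Groth.Agent.K0Hom

variable {X Y Z : Scheme.{u}}

/-- Killed on stalks means killed by the ideal. -/
theorem killedByIdeal_of_killed (i : Z ⟶ X) [IsClosedImmersion i] {G : X.Modules} (h : CycK0.Killed i G) :
    ClSub.KilledByIdeal i.ker G := by
  intro U a ha m
  have ha' : (i.app U.1).hom a = 0 := by
    rw [Scheme.Hom.ker_apply] at ha
    exact ha
  refine WeakAssLib.ext_germ G _ fun y hy => ?_
  rw [mgerm_smul]
  by_cases hr : y ∈ Set.range i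
  · obtain ⟨z, rfl⟩ := hr
    refine h.2 z _ ?_ _
    rw [RingHom.mem_ker]
    refine (Scheme.Hom.germ_stalkMap_apply i U.1 z hy a).trans ?_
    show (Z.presheaf.germ _ z _).hom ((i.app U.1).hom a) = 0
    rw [ha', map_zero]
  · haveI : Subsingleton (G.presheaf.stalk y) :=
      ModuleCat.subsingleton_of_isZero (h.1 y hr)
    exact Subsingleton.elim _ _

/-- Modules fixed by `i_* i^*` are killed on stalks. -/
theorem killed_of_isIso_unit (i : Z ⟶ X) [IsClosedImmersion i] {G : X.Modules} (h : IsIso ((K0Dev.un i).app G)) :
    CycK0.Killed i G :=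
  ⟨fun x hx => (K0Dev.isZero_push_st i _ hx).of_iso ((DerSch.stalkFunctor X x).mapIso (asIso ((K0Dev.un i).app G))),
    fun d a ha m => SupportLib.stalk_ann i G ((SupportLib.isIso_unit_iff i G).1 h) d a (RingHom.mem_ker.1 ha) m⟩

/-- Inverse images of killed modules are killed by the inverse image ideal. -/
theorem killed_pullback_fst (p : Y ⟶ X) (i : Z ⟶ X) [IsClosedImmersion i] {G : X.Modules}
    (h : CycK0.Killed i G) : CycK0.Killed (pullback.fst p i) ((Scheme.Modules.pullback p).obj G) := by
  refine ⟨fun y hy => ?_, fun z a ha m => ?_⟩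
  · have hy' : p y ∉ Set.range i := by
      rintro ⟨d, hd⟩
      apply hy
      rw [Scheme.Pullback.range_fst]
      exact ⟨d, hd⟩
    have h0 := h.1 _ hy'
    exact ((ModuleCat.extendScalars.{u, u, u} (p.stalkMap y).hom).map_isZero h0).of_iso
      ((KFlat.pullStalkIso p y).app G)
  · let x := p ((pullback.fst p i) z)
    have hw : i ((pullback.snd p i) z) = x := congr($((pullback.condition (f := p) (g := i)).symm).base z)
    have hann : ∀ c : X.presheaf.stalk x, c ∈ RingHom.ker (P1Div.stkHom i ((pullback.snd p i) z) hw) →
        ∀ n : G.presheaf.stalk x, c • n = 0 := by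
      clear_value x
      subst hw
      intro c hc n
      refine h.2 _ c ?_ n
      simpa [P1Div.stkHom] using hc
    let L : Ideal (Y.presheaf.stalk ((pullback.fst p i) z)) :=
      Module.annihilator (Y.presheaf.stalk ((pullback.fst p i) z))
        (((Scheme.Modules.pullback p).obj G).presheaf.stalk ((pullback.fst p i) z))
    suffices a ∈ L from Module.mem_annihilator.1 this m
    rw [CycK0.ker_pullback_fst p i z hw] at ha
    refine Ideal.map_le_iff_le_comap.2 (fun c hc => ?_) ha
    rw [Ideal.mem_comap, Module.mem_annihilator]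
    intro w
    let e := ((KFlat.pullStalkIso p ((pullback.fst p i) z)).app G).toLinearEquiv
    refine e.injective ?_
    refine Eq.trans (map_smul e _ _) (Eq.trans ?_ (map_zero e).symm)
    generalize e w = v
    letI : Algebra (X.presheaf.stalk x) (Y.presheaf.stalk ((pullback.fst p i) z)) :=
      (p.stalkMap ((pullback.fst p i) z)).hom.toAlgebra
    have key : ∀ v : (Y.presheaf.stalk ((pullback.fst p i) z)) ⊗[X.presheaf.stalk x] (G.presheaf.stalk x),
        (algebraMap (X.presheaf.stalk x) (Y.presheaf.stalk ((pullback.fst p i) z)) c) • v = 0 := fun v => by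
      rw [algebraMap_smul]
      induction v using TensorProduct.induction_on with
      | zero => exact smul_zero _
      | tmul b n => rw [← TensorProduct.tmul_smul, hann c hc n, TensorProduct.tmul_zero]
      | add a b ha hb => rw [smul_add, ha, hb, add_zero]
    exact key v

theorem smul_eq_zero_congr (H : Y.Modules) {y y' : Y} (h : y = y') (a : Y.presheaf.stalk y)
    (h0 : ∀ m' : H.presheaf.stalk y', ((Y.presheaf.stalkCongr (.of_eq h)).hom.hom a) • m' = 0)
    (m : H.presheaf.stalk y) : a • m = 0 := by
  subst h
  simpa using h0 m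

/-- Inverse images of direct images along closed immersions. -/
theorem nonempty_pullback_push {Z' : Scheme.{u}} {p : Y ⟶ X} {i : Z ⟶ X} {i' : Z' ⟶ Y} {q : Z' ⟶ Z}
    [IsClosedImmersion i] [IsClosedImmersion i'] (hp : IsPullback i' q p i) (M : Z.Modules) :
    Nonempty ((Scheme.Modules.pullback p).obj ((Scheme.Modules.pushforward i).obj M) ≅
      (Scheme.Modules.pushforward i').obj ((Scheme.Modules.pullback q).obj M)) := by
  haveI := GrothSS.isIso_counit_push i
  let G := (Scheme.Modules.pushforward i).obj M
  let H := (Scheme.Modules.pullback p).obj G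
  have hG : CycK0.Killed i G := killed_of_isIso_unit i (K0Dev.isIso_unit_push i M)
  have h1 := killed_pullback_fst p i hG
  have hr : Set.range i' = Set.range (pullback.fst p i) := by
    rw [← hp.isoPullback_hom_fst]
    exact (Function.Surjective.range_comp (hp.isoPullback.hom.surjective) _)
  have h2 : CycK0.Killed i' H := by
    refine ⟨fun y hy => h1.1 y (hr ▸ hy), fun z a ha m => ?_⟩
    have hz : i' z = (pullback.fst p i) (hp.isoPullback.hom z) := congr($(hp.isoPullback_hom_fst.symm).base z)
    have hs := Scheme.Hom.stalkMap_congr_hom i' (hp.isoPullback.hom ≫ pullback.fst p i) hp.isoPullback_hom_fst.symm z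
    rw [Scheme.Hom.stalkMap_comp] at hs
    rw [RingHom.mem_ker, hs] at ha
    have hb := h1.2 (hp.isoPullback.hom z) ((Y.presheaf.stalkCongr (.of_eq hz)).hom.hom a) (by
      rw [RingHom.mem_ker]
      haveI : IsIso (hp.isoPullback.hom.stalkMap z) := inferInstance
      refine (asIso (hp.isoPullback.hom.stalkMap z)).commRingCatIsoToRingEquiv.injective ?_
      rw [map_zero]
      exact ha)
    exact smul_eq_zero_congr H hz a hb m
  haveI : IsIso ((K0Dev.un i').app H) := (K0Dev.killed_iff i').2 (killedByIdeal_of_killed i' h2)
  let e : (Scheme.Modules.pullback i').obj H ≅ (Scheme.Modules.pullback q).obj M :=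
    (Scheme.Modules.pullbackComp i' p).app G ≪≫ (Scheme.Modules.pullbackCongr hp.w).app G ≪≫
      ((Scheme.Modules.pullbackComp q i).app G).symm ≪≫
      (Scheme.Modules.pullback q).mapIso (asIso ((Scheme.Modules.pullbackPushforwardAdjunction i).counit.app M))
  exact ⟨asIso ((K0Dev.un i').app H) ≪≫ (Scheme.Modules.pushforward i').mapIso e⟩

end Groth.Agent.K0Hom
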