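import Groth.Agent.K0Hom.Inj
import Groth.Agent.K0Hom.BC
import Groth.Agent.RelPCS.FlatBase

/-!
Inverse image along flat morphisms on the Grothendieck groups of coherent modules.
-/

set_option autoImplicit false
set_option linter.style.haveILetI false
set_option linter.unusedSectionVars false
set_option backward.isDefEq.respectTransparency false
set_option backward.isDefEq.respectTransparency.types false

universe u

open CategoryTheory CategoryTheory.Limits AlgebraicGeometry TopologicalSpace Opposite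

noncomputable section

attribute [local instance] Abelian.hasFiniteBiproducts

namespace Groth.Agent.K0Hom

/-- The class of a coherent module. -/
abbrev clM {X : Scheme.{u}} (M : X.Modules) : SGA6.Kcoh X := KZero.clSub (fun N : X.Modules => Coh.IsCoh N) M

theorem clM_iso {X : Scheme.{u}} [IsNoetherian X] {M N : X.Modules} (e : M ≅ N) (h : Coh.IsCoh M) :
    clM M = clM N := K0Filt.cl_congr e h

theorem shortExact_pullback_flat {X Y : Scheme.{u}} (f : Y ⟶ X) [Flat f] {S : ShortComplex X.Modules}
    (hS : S.ShortExact) :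
    haveI := (Scheme.Modules.pullbackPushforwardAdjunction f).leftAdjoint_preservesColimits.{0, 0}
    haveI : (Scheme.Modules.pullback f).Additive := Functor.additive_of_preserves_binary_products _
    (S.map (Scheme.Modules.pullback f)).ShortExact := by
  haveI := (Scheme.Modules.pullbackPushforwardAdjunction f).leftAdjoint_preservesColimits.{0, 0}
  haveI := RelPCS.preservesFiniteLimits_pullback f
  haveI : (Scheme.Modules.pullback f).Additive := Functor.additive_of_preserves_binary_products _
  haveI : PreservesFiniteColimits (Scheme.Modules.pullback f) :=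
    PreservesColimitsOfSize.preservesFiniteColimits _
  exact hS.map_of_exact _

variable {X Y W : Scheme.{u}}

/-- Inverse image along a flat morphism. -/
def pbF (f : Y ⟶ X) [Flat f] : SGA6.Kcoh X →+ SGA6.Kcoh Y :=
  PnReg.liftSub (fun M => clM ((Scheme.Modules.pullback f).obj M.1)) fun S h₁ h₂ h₃ hS => by
    haveI := (Scheme.Modules.pullbackPushforwardAdjunction f).leftAdjoint_preservesColimits.{0, 0}
    haveI := RelPCS.preservesFiniteLimits_pullback f
    haveI : (Scheme.Modules.pullback f).Additive := Functor.additive_of_preserves_binary_products _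
    exact K0Dev.cl_add _ (shortExact_pullback_flat f hS) (QC.isCoh_pullback f h₁) (QC.isCoh_pullback f h₂)
      (QC.isCoh_pullback f h₃)

theorem pbF_cl (f : Y ⟶ X) [Flat f] {M : X.Modules} (hM : Coh.IsCoh M) :
    pbF f (clM M) = clM ((Scheme.Modules.pullback f).obj M) :=
  PnReg.liftSub_cl _ _ hM

theorem pbF_congr [IsNoetherian Y] {f g : Y ⟶ X} [Flat f] [Flat g] (h : f = g) (x : SGA6.Kcoh X) :
    pbF f x = pbF g x := by subst h; rfl

theorem pbF_comp [IsNoetherian W] (g : W ⟶ Y) (f : Y ⟶ X) [Flat f] [Flat g] (x : SGA6.Kcoh X) :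
    pbF (g ≫ f) x = pbF g (pbF f x) := by
  refine DFunLike.congr_fun (K0Filt.hom_ext_cl _ (g := (pbF g).comp (pbF f)) fun M hM => ?_) x
  show pbF (g ≫ f) (clM M) = pbF g (pbF f (clM M))
  rw [pbF_cl _ hM, pbF_cl _ hM, pbF_cl _ (QC.isCoh_pullback f hM)]
  exact clM_iso ((Scheme.Modules.pullbackComp g f).app M).symm (QC.isCoh_pullback _ hM)

theorem pbF_id [IsNoetherian X] (x : SGA6.Kcoh X) : pbF (𝟙 X) x = x := by
  refine DFunLike.congr_fun (K0Filt.hom_ext_cl _ (g := AddMonoidHom.id _) fun M hM => ?_) x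
  show pbF (𝟙 X) (clM M) = clM M
  rw [pbF_cl _ hM]
  exact clM_iso ((Scheme.Modules.pullbackId X).app M) (QC.isCoh_pullback _ hM)

theorem bijective_pbF_iso [IsNoetherian X] [IsNoetherian Y] (e : Y ≅ X) : Function.Bijective (pbF e.hom) := by
  refine ⟨Function.LeftInverse.injective (g := pbF e.inv) fun x => ?_,
    Function.RightInverse.surjective (g := pbF e.inv) fun y => ?_⟩
  · rw [← pbF_comp, pbF_congr e.inv_hom_id, pbF_id]
  · rw [← pbF_comp, pbF_congr e.hom_inv_id, pbF_id]

theorem resK_eq_pbF [IsNoetherian X] [IsNoetherian Y] (j : Y ⟶ X) [IsOpenImmersion j] (x : SGA6.Kcoh X) :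
    K0Filt.resK j x = pbF j x := by
  refine DFunLike.congr_fun (K0Filt.hom_ext_cl _ fun M hM => ?_) x
  show K0Filt.resK j (clM M) = pbF j (clM M)
  rw [pbF_cl _ hM]
  unfold K0Filt.resK
  rw [K0Filt.mapSub_cl _ _ _ _ hM]
  exact clM_iso ((Scheme.Modules.restrictFunctorIsoPullback j).app M) (K0Filt.isCoh_restrict j M hM)

theorem mapSub_eq_pbF [IsNoetherian X] [IsNoetherian Y] (f : Y ⟶ X) [Flat f]
    [(Scheme.Modules.pullback f).Additive] [PreservesFiniteLimits (Scheme.Modules.pullback f)]
    [PreservesFiniteColimits (Scheme.Modules.pullback f)]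
    (hf : ∀ M : X.Modules, Coh.IsCoh M → Coh.IsCoh ((Scheme.Modules.pullback f).obj M)) (x : SGA6.Kcoh X) :
    SGA6.mapSub (Scheme.Modules.pullback f) (fun M : X.Modules => Coh.IsCoh M) (fun M : Y.Modules => Coh.IsCoh M) hf x
      = pbF f x := by
  refine DFunLike.congr_fun (K0Filt.hom_ext_cl _ fun M hM => ?_) x
  rw [K0Filt.mapSub_cl _ _ _ _ hM]
  exact (pbF_cl f hM).symm

variable [IsNoetherian X]

/-- Inverse image along the projection onto the zero locus of a regular function is injective. -/
theorem Sec.injective_pbF [IsNoetherian Y] {p : Y ⟶ X} [Flat p] {s : X ⟶ Y} {t : Γ(Y, ⊤)} (h : Sec p s t) :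
    Function.Injective (pbF p) := by
  haveI := (Scheme.Modules.pullbackPushforwardAdjunction p).leftAdjoint_preservesColimits.{0, 0}
  haveI := RelPCS.preservesFiniteLimits_pullback p
  haveI : (Scheme.Modules.pullback p).Additive := Functor.additive_of_preserves_binary_products _
  haveI : PreservesFiniteColimits (Scheme.Modules.pullback p) :=
    PreservesColimitsOfSize.preservesFiniteColimits _
  intro a b hab
  refine h.injective_pbK ?_
  show SGA6.mapSub _ _ _ _ a = SGA6.mapSub _ _ _ _ b
  rw [mapSub_eq_pbF, mapSub_eq_pbF]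
  exact hab

/-- Direct image along a closed immersion on classes. -/
def pushC {Z : Scheme.{u}} [IsNoetherian Z] (i : Z ⟶ X) [IsClosedImmersion i] : SGA6.Kcoh Z →+ SGA6.Kcoh X :=
  PnReg.liftSub (fun M => clM ((Scheme.Modules.pushforward i).obj M.1)) fun S h₁ h₂ h₃ hS => by
    haveI := GrothSS.preservesFiniteLimits_push i
    haveI := GrothSS.preservesFiniteColimits_push i
    exact K0Dev.cl_add _ (hS.map_of_exact (Scheme.Modules.pushforward i)) (K0Dev.supp_push i h₁).1
      (K0Dev.supp_push i h₂).1 (K0Dev.supp_push i h₃).1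

theorem pushC_cl {Z : Scheme.{u}} [IsNoetherian Z] (i : Z ⟶ X) [IsClosedImmersion i] {M : Z.Modules}
    (hM : Coh.IsCoh M) : pushC i (clM M) = clM ((Scheme.Modules.pushforward i).obj M) :=
  PnReg.liftSub_cl _ _ hM

/-- Flat inverse image commutes with direct image along closed immersions. -/
theorem pbF_pushC {Z Z' : Scheme.{u}} [IsNoetherian Y] [IsNoetherian Z] [IsNoetherian Z'] {p : Y ⟶ X} {i : Z ⟶ X}
    {i' : Z' ⟶ Y} {q : Z' ⟶ Z} [Flat p] [Flat q] [IsClosedImmersion i] [IsClosedImmersion i']
    (hp : IsPullback i' q p i) (x : SGA6.Kcoh Z) : pbF p (pushC i x) = pushC i' (pbF q x) := by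
  refine DFunLike.congr_fun (K0Filt.hom_ext_cl _ (f := (pbF p).comp (pushC i)) (g := (pushC i').comp (pbF q))
    fun M hM => ?_) x
  show pbF p (pushC i (clM M)) = pushC i' (pbF q (clM M))
  rw [pushC_cl i hM, pbF_cl q hM, pbF_cl p (K0Dev.supp_push i hM).1, pushC_cl i' (QC.isCoh_pullback q hM)]
  obtain ⟨e⟩ := nonempty_pullback_push hp M
  exact clM_iso e (QC.isCoh_pullback p (K0Dev.supp_push i hM).1)

/-- Exactness at the middle of the localization sequence. -/
theorem exists_pushC_eq {Z U : Scheme.{u}} [IsNoetherian Z] [IsNoetherian U] (i : Z ⟶ X) [IsClosedImmersion i]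
    (j : U ⟶ X) [IsOpenImmersion j] (hj : Set.range j = (Set.range i)ᶜ) {x : SGA6.Kcoh X}
    (hx : pbF j x = 0) : ∃ z, pushC i z = x := by
  haveI := GrothSS.preservesFiniteLimits_push i
  haveI := GrothSS.preservesFiniteColimits_push i
  haveI : IsNoetherian j.opensRange.toScheme := LocImmFT.isNoetherian_opens _
  have hi : ∀ M : Z.Modules, Coh.IsCoh M → Coh.IsCoh ((Scheme.Modules.pushforward i).obj M) :=
    fun M h => (K0Dev.supp_push i h).1
  have hk := (K0Filt.localization i hi j.opensRange hj (K0Filt.isCoh_restrict _)).2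
  have hw : j.isoOpensRange.hom ≫ j.opensRange.ι = j := Scheme.Hom.isoOpensRange_hom_ι j
  rw [← resK_eq_pbF, K0Filt.resK_comp j.isoOpensRange.hom j.opensRange.ι j hw] at hx
  have hx' : K0Filt.resK j.opensRange.ι x = 0 :=
    (K0Filt.resK_bijective j.isoOpensRange).1 (hx.trans (map_zero _).symm)
  have hmem : x ∈ K0Filt.Rg i hi := hk ▸ (AddMonoidHom.mem_ker.2 hx')
  obtain ⟨z, hz⟩ := hmem
  refine ⟨z, Eq.trans ?_ hz⟩
  refine DFunLike.congr_fun (K0Filt.hom_ext_cl _ fun M hM => ?_) z
  rw [K0Filt.mapSub_cl _ _ _ _ hM]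
  exact pushC_cl i hM

/-- Surjectivity of the restriction to an open piece. -/
theorem surjective_pbF_open {Z U : Scheme.{u}} [IsNoetherian Z] [IsNoetherian U] (i : Z ⟶ X) [IsClosedImmersion i]
    (j : U ⟶ X) [IsOpenImmersion j] (hj : Set.range j = (Set.range i)ᶜ) : Function.Surjective (pbF j) := by
  haveI := GrothSS.preservesFiniteLimits_push i
  haveI := GrothSS.preservesFiniteColimits_push i
  haveI : IsNoetherian j.opensRange.toScheme := LocImmFT.isNoetherian_opens _
  have hi : ∀ M : Z.Modules, Coh.IsCoh M → Coh.IsCoh ((Scheme.Modules.pushforward i).obj M) :=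
    fun M h => (K0Dev.supp_push i h).1
  have hs := (K0Filt.localization i hi j.opensRange hj (K0Filt.isCoh_restrict _)).1
  have hw : j.isoOpensRange.hom ≫ j.opensRange.ι = j := Scheme.Hom.isoOpensRange_hom_ι j
  intro y
  obtain ⟨x', hx'⟩ := (K0Filt.resK_bijective j.isoOpensRange).2 y
  obtain ⟨x, hx⟩ := hs x'
  refine ⟨x, ?_⟩
  rw [← resK_eq_pbF, K0Filt.resK_comp j.isoOpensRange.hom j.opensRange.ι j hw]
  exact (congrArg _ hx).trans hx'

end Groth.Agent.K0Hom
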