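import Groth.Agent.K0Hom.GenMaps
import Groth.Agent.K0Filt.Basic
import Groth.Agent.K0Filt.Push
import Groth.Agent.W7Slope.Basic
import Groth.Agent.W7Cube.Pic
import Groth.Agent.CurveRR.Curve
import Groth.Agent.SGA6Ext.Exists
import Groth.Agent.ExtFund.DetSES
import Groth.Agent.ExtFund.SmoothPn
import Groth.Agent.ExtFund.CanonDet
import Groth.Agent.K0Smooth.Main
import Groth.Agent.ZeroSch.Basic
import Groth.Agent.SmLocalST.SmoothField

/-!
# The Grothendieck group of a regular curve is `ℤ × Pic`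
-/

set_option autoImplicit false
set_option linter.style.haveILetI false
set_option backward.isDefEq.respectTransparency false
set_option backward.isDefEq.respectTransparency.types false

universe u

open CategoryTheory CategoryTheory.Limits AlgebraicGeometry TopologicalSpace

noncomputable section

namespace Groth.Agent.K0Hom

variable {X : Scheme.{u}} [IsNoetherian X]

local notation "O" => Coh.structureModule X

theorem dim_supp_le {n : WithBot ℕ∞} (hdim : topologicalKrullDim X ≤ n) (A : Set X) : topologicalKrullDim ↥A ≤ n :=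
  (Topology.IsInducing.subtypeVal.topologicalKrullDim_le).trans hdim

theorem le_zero_of_lt_one {a : WithBot ℕ∞} (h : a < ((1 : ℕ) : WithBot ℕ∞)) : a ≤ ((0 : ℕ) : WithBot ℕ∞) := by
  induction a with
  | bot => exact bot_le
  | coe a => exact WithBot.coe_le_coe.2 (le_of_eq (ENat.lt_one_iff_eq_zero.1 (WithBot.coe_lt_coe.1 h)))

theorem isCoh_rank {E : X.Modules} {e : ℕ} (hE : FlatMod.IsFinLocFreeOfRank e E) : Coh.IsCoh E :=
  K0Coh.isCoh_of_isFinLocFree fun y => let ⟨U, hU, h⟩ := hE y; ⟨U, e, hU, h⟩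

theorem clM_eq_zero_of_dim_lt {G : X.Modules} (h : topologicalKrullDim ↥(CohB1.support G) < (0 : ℕ)) : clM G = 0 := by
  refine K0Filt.cl_zero ((K0Dev.isZero_iff_stalks _).2 fun x => ?_)
  by_contra hx
  haveI : Nonempty ↥(CohB1.support G) := ⟨⟨x, fun h0 => hx ((ClSubLib.notMem_support_iff_isZero G x).1 fun h' => h' h0)⟩⟩
  haveI : Nonempty (IrreducibleCloseds ↥(CohB1.support G)) :=
    ⟨⟨closure {Classical.arbitrary _}, isIrreducible_singleton.closure, isClosed_closure⟩⟩
  have : (0 : WithBot ℕ∞) ≤ topologicalKrullDim ↥(CohB1.support G) := Order.krullDim_nonneg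
  exact absurd (this.trans_lt (h.trans_eq Nat.cast_zero)) (lt_irrefl _)

theorem low_zero {c : SGA6.Kcoh X} (h : c ∈ K0Filt.Low X 0) : c = 0 := by
  induction h using AddSubgroup.closure_induction with
  | mem c hc => obtain ⟨G, -, hd, rfl⟩ := hc; exact clM_eq_zero_of_dim_lt hd
  | zero => rfl
  | add a b _ _ ha hb => rw [ha, hb, add_zero]
  | neg a _ ha => rw [ha, neg_zero]

theorem tenC_low {L : X.Modules} (hL : FlatMod.IsFinLocFreeOfRank 1 L) (hL' : FlatMod.IsFinLocFree L)
    {c : SGA6.Kcoh X} (h : c ∈ K0Filt.Low X 1) : tenC L hL' c = c := by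
  induction h using AddSubgroup.closure_induction with
  | mem c hc =>
    obtain ⟨G, hG, hd, rfl⟩ := hc
    have h1 := K0Filt.tensor_sub_mem L 1 hL G hG 0 (le_zero_of_lt_one hd)
    have h2 := low_zero h1
    rw [one_smul, sub_eq_zero] at h2
    exact (tenC_cl L hL' hG).trans h2
  | zero => rw [map_zero]
  | add a b _ _ ha hb => rw [map_add, ha, hb]
  | neg a _ ha => rw [map_neg, ha]

theorem sub_structure_low (hdim : topologicalKrullDim X ≤ 1) {E : X.Modules} {e : ℕ}
    (hE : FlatMod.IsFinLocFreeOfRank e E) : clM E - e • clM O ∈ K0Filt.Low X 1 := by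
  have h := K0Filt.tensor_sub_mem E e hE O RefStalk.isCoh_structureModule 1
    (dim_supp_le (by simpa using hdim) _)
  have e' : clM (CohB1.tensorMod E O) = clM E := clM_iso (SecTwist.unitorR E) (K0Coh.isCoh_of_iso (SecTwist.unitorR E).symm (isCoh_rank hE))
  rwa [← e']

theorem cl_tensor (hdim : topologicalKrullDim X ≤ 1) {L M : X.Modules} (hL : PicF.IsInvertible L)
    (hM : PicF.IsInvertible M) : clM (CohB1.tensorMod L M) + clM O = clM L + clM M := by
  have hL1 := CurveRR.isFinLocFreeOfRank_one hL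
  have hL' : FlatMod.IsFinLocFree L := fun y => let ⟨U, hU, h⟩ := hL1 y; ⟨U, 1, hU, h⟩
  have hM1 := CurveRR.isFinLocFreeOfRank_one hM
  have h := tenC_low hL1 hL' (sub_structure_low hdim hM1)
  rw [one_smul, map_sub, tenC_cl L hL' (isCoh_rank hM1),
    tenC_cl L hL' RefStalk.isCoh_structureModule, clM_iso (SecTwist.unitorR L) (K0Coh.isCoh_of_iso (SecTwist.unitorR L).symm (isCoh_rank hL1))] at h
  rw [← sub_eq_zero] at h ⊢
  rw [← h]
  abel

/-- Elements of the form `(n - 1) [O] + [L]`. -/
def picElts (hdim : topologicalKrullDim X ≤ 1) : AddSubgroup (SGA6.Kcoh X) where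
  carrier := {c | ∃ (n : ℤ) (L : X.Modules), PicF.IsInvertible L ∧ c = (n - 1) • clM O + clM L}
  zero_mem' := ⟨0, O, PicLoc.isInvertible_structureModule X, by rw [zero_sub, neg_smul, one_smul, neg_add_cancel]⟩
  add_mem' := by
    rintro _ _ ⟨n, L, hL, rfl⟩ ⟨m, M, hM, rfl⟩
    refine ⟨n + m, _, TMul.isInvertible_tensorMod hL hM, ?_⟩
    rw [eq_sub_of_add_eq (cl_tensor hdim hL hM)]
    module
  neg_mem' := by
    rintro _ ⟨n, L, hL, rfl⟩
    obtain ⟨L', hL', ⟨e⟩⟩ := W7Hull.exists_tensor_inverse hL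
    refine ⟨-n, L', hL', ?_⟩
    have h := cl_tensor hdim hL hL'
    rw [clM_iso e (K0Coh.isCoh_of_iso e.symm RefStalk.isCoh_structureModule)] at h
    rw [eq_sub_of_add_eq' h.symm]
    module

section Curve

variable [IsIntegral X] (hdim : topologicalKrullDim X = 1)
  (hreg : ∀ x : X, IsRegularLocalRing (X.presheaf.stalk x))

include hreg in
theorem closure_mem (x : X) (hx : topologicalKrullDim ↥(closure ({x} : Set X)) ≤ (0 : ℕ)) :
    clM (Cyc.closureStructureSheaf x) ∈ picElts hdim.le := by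
  set I := IntMult.ptIdeal x
  have hne : ¬ (x ⤳ genericPoint X) := fun h => by
    have h1 : closure ({x} : Set X) = Set.univ := by
      refine Set.eq_univ_of_univ_subset ?_
      rw [← (genericPoint_spec X).def]
      exact closure_minimal (Set.singleton_subset_iff.2 (specializes_iff_mem_closure.1 h)) isClosed_closure
    rw [h1, IsHomeomorph.topologicalKrullDim_eq _ (Homeomorph.Set.univ X).isHomeomorph, hdim] at hx
    exact absurd hx (by norm_num)
  have hI := (CurveRR.isCoh_idealMod I).1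
  have hS := CurveRR.ideal_shortExact I
  haveI := hS.mono_f
  have hIl : FlatMod.IsFinLocFree (ClSub.idealMod I) :=
    W7Slope.isFinLocFree_of_mono hdim.le hreg (ClSub.idealModι I) hI
      fun y => let ⟨U, hU, h⟩ := CurveRR.isFinLocFreeOfRank_one (PicLoc.isInvertible_structureModule X) y
               ⟨U, 1, hU, h⟩
  have hI1 : W7Slope.grk (ClSub.idealMod I) = 1 := by
    have h := W7Slope.grk_add hS RefStalk.isCoh_structureModule
    dsimp only at h
    rw [W7Slope.grk_of_rank (CurveRR.isFinLocFreeOfRank_one (PicLoc.isInvertible_structureModule X))] at h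
    have h0 : W7Slope.grk (ClSub.quotMod I) = 0 := by
      haveI : Subsingleton ↥((ClSub.quotMod I).presheaf.stalk (genericPoint X)) :=
        not_not.1 ((ClSubLib.notMem_support_iff_isZero _ _).2 (CycK0.isZero_closure_st hne))
      exact Module.finrank_zero_of_subsingleton
    rw [h0, add_zero] at h
    exact h.symm
  have hIinv : PicF.IsInvertible (ClSub.idealMod I) := by
    refine ZeroSch.isInvertible_of_rankOne ?_
    rw [← hI1]
    exact W7Slope.rank_of_isFinLocFree hI.1 hIl
  have h1 : clM O ∈ picElts hdim.le := ⟨1, O, PicLoc.isInvertible_structureModule X, by simp⟩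
  have h2 : clM (ClSub.idealMod I) ∈ picElts hdim.le := ⟨1, _, hIinv, by simp⟩
  have h := K0Filt.cl_add hS hI RefStalk.isCoh_structureModule (CurveRR.isCoh_idealMod I).2
  have h3 : clM (ClSub.quotMod I) = clM O - clM (ClSub.idealMod I) := eq_sub_of_add_eq' h.symm
  change clM (ClSub.quotMod I) ∈ picElts hdim.le
  rw [h3]
  exact sub_mem h1 h2

include hreg in
theorem low_le : K0Filt.Low X 1 ≤ picElts hdim.le := by
  refine (AddSubgroup.closure_le _).2 ?_
  rintro _ ⟨G, hG, hd, rfl⟩
  have hd' : topologicalKrullDim ↥(CohB1.support G) ≤ (0 : ℕ) := le_zero_of_lt_one hd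
  have h : clM G ∈ AddSubgroup.closure {c : SGA6.Kcoh X | ∃ x : ↥X,
      topologicalKrullDim ↥(closure ({x} : Set ↥X)) ≤ (0 : ℕ) ∧ c = clM (Cyc.closureStructureSheaf x)} := by
    rw [← K0Filt.closure_eq 0]
    exact AddSubgroup.subset_closure ⟨G, hG, hd', rfl⟩
  refine (AddSubgroup.closure_le _).2 ?_ h
  rintro _ ⟨x, hx, rfl⟩
  exact closure_mem hdim hreg x hx

include hreg in
theorem clM_mem {E : X.Modules} (hE : FlatMod.IsFinLocFree E) : clM E ∈ picElts hdim.le := by
  have hr := W7Slope.rank_of_isFinLocFree (LocFree.isQCoh_of_isFinLocFree hE) hE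
  rw [← sub_add_cancel (clM E) (W7Slope.grk E • clM O)]
  exact add_mem (low_le hdim hreg (sub_structure_low hdim.le hr))
    (nsmul_mem (show clM O ∈ picElts hdim.le from ⟨1, O, PicLoc.isInvertible_structureModule X, by simp⟩) _)

/-- The invertible determinant of a locally free module. -/
def det (E : X.Modules) (hE : FlatMod.IsFinLocFree E) : PicLoc.PicSet X :=
  PicGrp.cls (SGA6Ext.extSh E (W7Slope.grk E))
    (ExtFund.isInvertible_of_hasDet (DetDeg.hasDet_of_isExtPow
      (W7Slope.rank_of_isFinLocFree (LocFree.isQCoh_of_isFinLocFree hE) hE)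
      (SGA6Ext.isExtPow_extSh E _ hE)))

theorem hasDet_extSh {E : X.Modules} (hE : FlatMod.IsFinLocFree E) :
    DetDeg.HasDet (W7Slope.grk E) E (SGA6Ext.extSh E (W7Slope.grk E)) :=
  DetDeg.hasDet_of_isExtPow (W7Slope.rank_of_isFinLocFree (LocFree.isQCoh_of_isFinLocFree hE) hE)
    (SGA6Ext.isExtPow_extSh E _ hE)

theorem hasDet_self {L : X.Modules} (hL : PicF.IsInvertible L) : DetDeg.HasDet 1 L L := by
  choose D g hxD hg using TMul.exists_isGen hL
  have hf : ∀ x, TMul.IsFrame (fun _ : Fin 1 => g x) := fun x => W7Strat.isFrame_of_bijective fun V hV => by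
    have h1 : (fun c : Fin 1 → Γ(X, V) => ∑ j, c j • Groth.Agent.QC.res L hV (g x)) =
        (fun a : Γ(X, V) => a • Groth.Agent.QC.res L hV (g x)) ∘ fun c : Fin 1 → Γ(X, V) => c 0 := by
      funext c; simp
    rw [h1]
    exact (hg x V hV).comp (Equiv.funUnique (Fin 1) _).bijective
  let C : X → DetDeg.Chart 1 L L := fun x => ⟨D x, fun _ => g x, g x, hf x, hg x⟩
  refine ⟨X, C, fun x => ⟨x, hxD x⟩, fun i j => ?_⟩
  intro z hzi hzj m hm
  rw [Matrix.det_fin_one]
  simpa using hm 0

/-- Rank and determinant. -/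
def rankDet [PicGrp.Law X] : SGA6.Kvb X →+ ℤ × Additive (PicLoc.PicSet X) :=
  PnReg.liftSub (fun E => ((W7Slope.grk E.1 : ℤ), Additive.ofMul (det E.1 E.2))) fun S h₁ h₂ h₃ hS => by
    have hc : Coh.IsCoh S.X₂ := K0Coh.isCoh_of_isFinLocFree h₂
    have hr := W7Slope.grk_add hS hc
    refine Prod.ext (by simp [hr]) ?_
    simp only [Prod.snd_add, ← ofMul_mul]
    refine congrArg Additive.ofMul (Subtype.ext ?_)
    rw [PicGrp.mul_val]
    exact Quot.sound (ExtFund.nonempty_det_iso S hS (hasDet_extSh h₁) (hr ▸ hasDet_extSh h₂) (hasDet_extSh h₃) |>.map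
      fun e => (eqToIso (by rw [hr])) ≪≫ e)

theorem rankDet_cl [PicGrp.Law X] {L : X.Modules} (hL : PicF.IsInvertible L) :
    rankDet (KZero.clSub (fun M : X.Modules => FlatMod.IsFinLocFree M) L) =
      (1, Additive.ofMul (PicGrp.cls L hL)) := by
  have hL1 := CurveRR.isFinLocFreeOfRank_one hL
  have hL' : FlatMod.IsFinLocFree L := fun y => let ⟨U, hU, h⟩ := hL1 y; ⟨U, 1, hU, h⟩
  refine (PnReg.liftSub_cl _ _ hL').trans ?_
  have h1 : W7Slope.grk L = 1 := W7Slope.grk_of_rank hL1
  refine Prod.ext (by simp [h1]) (congrArg Additive.ofMul ?_)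
  refine (PicGrp.cls_eq_cls_iff _ hL).2 ?_
  have hd := hasDet_extSh hL'
  rw [h1] at hd
  have h2 := ExtFund.hasDet_unique hd (hasDet_self hL)
  rw [h1]
  exact h2

end Curve

end Groth.Agent.K0Hom
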