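import Groth.Agent.K0Hom.Sec

/-!
The coordinate hyperplane of relative affine space is a section cut out by a regular function.
-/

set_option autoImplicit false
set_option linter.style.haveILetI false
set_option backward.isDefEq.respectTransparency false
set_option backward.isDefEq.respectTransparency.types false

universe u

open CategoryTheory CategoryTheory.Limits AlgebraicGeometry TopologicalSpace Opposite

noncomputable section

namespace Groth.Agent.K0Hom

section Ring

variable (A : Type u) [CommRing A] {m n : Type u} (e : Option m ≃ n)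

/-- Setting one variable to zero. -/
def setZero : MvPolynomial n A →ₐ[A] MvPolynomial m A :=
  MvPolynomial.aeval fun i => (e.symm i).elim 0 MvPolynomial.X

theorem setZero_rename (g : MvPolynomial m A) : setZero A e (MvPolynomial.rename (e ∘ some) g) = g := by
  rw [setZero, MvPolynomial.aeval_rename]
  have : (fun i => (e.symm i).elim 0 MvPolynomial.X) ∘ (e ∘ some) = (MvPolynomial.X : m → MvPolynomial m A) := by
    funext j; simp
  rw [this, MvPolynomial.aeval_X_left_apply]

theorem setZero_surjective : Function.Surjective (setZero A e) := fun g => ⟨_, setZero_rename A e g⟩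

theorem setZero_X : setZero A e (MvPolynomial.X (e none)) = 0 := by simp [setZero]

theorem sub_rename_mem (f : MvPolynomial n A) :
    f - MvPolynomial.rename (e ∘ some) (setZero A e f) ∈ Ideal.span {MvPolynomial.X (e none)} := by
  induction f using MvPolynomial.induction_on with
  | C a => simp [setZero]
  | add p q hp hq =>
    rw [map_add, map_add, add_sub_add_comm]
    exact add_mem hp hq
  | mul_X p i hp =>
    rcases h : e.symm i with _ | j
    · have hi : i = e none := by rw [← h, Equiv.apply_symm_apply]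
      subst hi
      simp [setZero, Ideal.mem_span_singleton]
    · have hi : i = e (some j) := by rw [← h, Equiv.apply_symm_apply]
      subst hi
      have : setZero A e (MvPolynomial.X (e (some j))) = MvPolynomial.X j := by simp [setZero]
      rw [map_mul, map_mul, this, MvPolynomial.rename_X, Function.comp_apply, ← sub_mul]
      exact Ideal.mul_mem_right _ _ hp

theorem ker_setZero {f : MvPolynomial n A} (h : setZero A e f = 0) :
    f ∈ Ideal.span {(MvPolynomial.X (e none) : MvPolynomial n A)} := by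
  have := sub_rename_mem A e f
  rwa [h, map_zero, sub_zero] at this

theorem isSMulRegular_X (i : n) : IsSMulRegular (MvPolynomial n A) (MvPolynomial.X i : MvPolynomial n A) :=
  fun a b h => MvPolynomial.ext _ _ fun d => by
    have := congrArg (MvPolynomial.coeff (d + Finsupp.single i 1)) h
    simpa [smul_eq_mul, mul_comm (MvPolynomial.X i), MvPolynomial.coeff_mul_X] using this

end Ring

section Spec

variable {R S : CommRingCat.{u}} (φ : R ⟶ S) (T : R) (q : PrimeSpectrum S)

/-- The germ of an element of the ring. -/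
abbrev gSpec (P : Spec R) : (Spec R).presheaf.stalk P :=
  ((Spec R).presheaf.germ ⊤ P trivial).hom ((Scheme.ΓSpecIso R).inv.hom T)

theorem stalkIso_gSpec (P : PrimeSpectrum R) :
    (Spec.stalkIso R P).hom.hom (gSpec T P) = algebraMap R (Localization.AtPrime P.asIdeal) T := by
  have h := congr($(Spec.germ_stalkMapIso_hom (R := R) (x := P)).hom ((Scheme.ΓSpecIso R).inv.hom T))
  refine h.trans ?_
  exact congrArg (algebraMap R (Localization.AtPrime P.asIdeal)) (congr($((Scheme.ΓSpecIso R).inv_hom_id).hom T))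

theorem reg_gSpec (hT : IsSMulRegular R T) (P : PrimeSpectrum R) :
    IsSMulRegular ((Spec R).presheaf.stalk P) (gSpec T P) := by
  haveI : Module.Flat R (Localization.AtPrime P.asIdeal) := IsLocalization.flat _ P.asIdeal.primeCompl
  have h := IsSMulRegular.of_flat (S := Localization.AtPrime P.asIdeal) hT
  intro a b hab
  refine (Spec.stalkIso R P).commRingCatIsoToRingEquiv.injective (h ?_)
  have := congrArg (Spec.stalkIso R P).hom.hom hab
  simp only [smul_eq_mul, map_mul] at this
  show algebraMap R (Localization.AtPrime P.asIdeal) T * (Spec.stalkIso R P).hom.hom a =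
    algebraMap R (Localization.AtPrime P.asIdeal) T * (Spec.stalkIso R P).hom.hom b
  rw [← stalkIso_gSpec]
  exact this

theorem ker_stalkMap_spec (hφ : Function.Surjective φ.hom) (hker : ∀ a, φ.hom a = 0 → a ∈ Ideal.span {T}) :
    RingHom.ker ((Spec.map φ).stalkMap q).hom ≤ Ideal.span {gSpec T ((Spec.map φ) q)} := by
  intro z hz
  let P : PrimeSpectrum R := PrimeSpectrum.comap φ.hom q
  let I := Spec.stalkIso R P
  have hw : Localization.localRingHom P.asIdeal q.asIdeal φ.hom rfl (I.hom.hom z) = 0 := by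
    refine (Spec.stalkIso S q).symm.commRingCatIsoToRingEquiv.injective ?_
    rw [map_zero]
    refine Eq.trans ?_ hz
    exact congr($(Scheme.localRingHom_comp_stalkIso φ q).hom z)
  obtain ⟨⟨a, b⟩, hab⟩ := IsLocalization.mk'_surjective P.asIdeal.primeCompl (I.hom.hom z)
  rw [← hab, Localization.localRingHom_mk', IsLocalization.mk'_eq_zero_iff] at hw
  obtain ⟨⟨c, hc⟩, hc0⟩ := hw
  obtain ⟨c', rfl⟩ := hφ c
  have hc' : c' ∈ P.asIdeal.primeCompl := fun h => hc h
  obtain ⟨d, hd⟩ := Ideal.mem_span_singleton'.1 (hker (c' * a) (by rw [map_mul]; exact hc0))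
  have hz' : I.hom.hom z = algebraMap R _ T * IsLocalization.mk' _ d (⟨c', hc'⟩ * b) := by
    rw [← hab, IsLocalization.mul_mk'_eq_mk'_of_mul]
    refine IsLocalization.mk'_eq_of_eq ?_
    show b.1 * (T * d) = c' * b.1 * a
    linear_combination (b.1 : R) * hd
  refine Ideal.mem_span_singleton'.2 ⟨I.inv.hom (IsLocalization.mk' _ d (⟨c', hc'⟩ * b)), ?_⟩
  refine I.commRingCatIsoToRingEquiv.injective ?_
  show I.hom.hom (_ * _) = I.hom.hom z
  rw [map_mul, hz', mul_comm]
  refine congr_arg₂ (· * ·) (stalkIso_gSpec T P) ?_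
  exact congr($(I.inv_hom_id).hom _)

end Spec

/-- Regularity and the kernel at a point pass along open immersions. -/
theorem transfer {X Y X' Y' : Scheme.{u}} (s : X ⟶ Y) (s' : X' ⟶ Y') (cX : X' ⟶ X) (cY : Y' ⟶ Y)
    [IsOpenImmersion cX] [IsOpenImmersion cY] (w : cX ≫ s = s' ≫ cY) (q : X') (t : Γ(Y, ⊤))
    (t' : Γ(Y', ⊤)) (ht : cY.appTop.hom t = t')
    (hreg : IsSMulRegular (Y'.presheaf.stalk (s' q))
      ((Y'.presheaf.germ ⊤ (s' q) trivial).hom t' : Y'.presheaf.stalk (s' q)))
    (hker : RingHom.ker (s'.stalkMap q).hom ≤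
      Ideal.span {((Y'.presheaf.germ ⊤ (s' q) trivial).hom t' : Y'.presheaf.stalk (s' q))}) :
    IsSMulRegular (Y.presheaf.stalk (s (cX q)))
      ((Y.presheaf.germ ⊤ (s (cX q)) trivial).hom t : Y.presheaf.stalk (s (cX q))) ∧
    RingHom.ker (s.stalkMap (cX q)).hom ≤
      Ideal.span {((Y.presheaf.germ ⊤ (s (cX q)) trivial).hom t : Y.presheaf.stalk (s (cX q)))} := by
  have hp : s (cX q) = cY (s' q) := congr($(w).base q)
  let γ : Y.presheaf.stalk (s (cX q)) ⟶ Y'.presheaf.stalk (s' q) :=
    (Y.presheaf.stalkCongr (.of_eq hp)).hom ≫ cY.stalkMap (s' q)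
  haveI : IsIso γ := IsIso.comp_isIso' inferInstance inferInstance
  have hγ : s.stalkMap (cX q) ≫ cX.stalkMap q = γ ≫ s'.stalkMap q := by
    rw [← Scheme.Hom.stalkMap_comp, Scheme.Hom.stalkMap_congr_hom _ _ w q, Scheme.Hom.stalkMap_comp]
    exact (Category.assoc _ _ _).symm
  have hgt : γ.hom ((Y.presheaf.germ ⊤ (s (cX q)) trivial).hom t) = (Y'.presheaf.germ ⊤ (s' q) trivial).hom t' := by
    rw [← ht]
    show (cY.stalkMap (s' q)).hom ((Y.presheaf.stalkCongr (.of_eq hp)).hom.hom _) = _
    rw [show (Y.presheaf.stalkCongr (.of_eq hp)).hom.hom ((Y.presheaf.germ ⊤ (s (cX q)) trivial).hom t) =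
      (Y.presheaf.germ ⊤ (cY (s' q)) trivial).hom t from TopCat.Presheaf.germ_stalkSpecializes_apply (F := Y.presheaf) (U := (⊤ : Y.Opens)) (x := cY (s' q)) (y := s (cX q)) trivial
        (Inseparable.of_eq hp).ge _]
    exact Scheme.Hom.germ_stalkMap_apply cY ⊤ (s' q) trivial t
  have hinj : Function.Injective γ.hom := (asIso γ).commRingCatIsoToRingEquiv.injective
  refine ⟨fun a b hab => hinj (hreg ?_), fun z hz => ?_⟩
  · have := congrArg γ.hom hab
    simp only [smul_eq_mul, map_mul, hgt] at this
    exact this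
  · obtain ⟨c, hc⟩ := Ideal.mem_span_singleton'.1 (hker (show γ.hom z ∈ RingHom.ker (s'.stalkMap q).hom by
      rw [RingHom.mem_ker] at hz ⊢
      refine (congr($(hγ).hom z)).symm.trans ?_
      show (cX.stalkMap q).hom ((s.stalkMap (cX q)).hom z) = 0
      rw [hz, map_zero]))
    refine Ideal.mem_span_singleton'.2 ⟨(inv γ).hom c, hinj ?_⟩
    rw [map_mul, hgt, ← hc]
    exact congrArg (· * _) (congr($(IsIso.inv_hom_id γ).hom c))

open AffineSpace

variable {S : Scheme.{u}} {m n : Type u} (e : Option m ≃ n)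

/-- The coordinate hyperplane. -/
def hyp (S : Scheme.{u}) : 𝔸(m; S) ⟶ 𝔸(n; S) :=
  homOfVector (𝔸(m; S) ↘ S) fun i => (e.symm i).elim 0 (coord S)

/-- The projection to the hyperplane. -/
abbrev proj (S : Scheme.{u}) : 𝔸(n; S) ⟶ 𝔸(m; S) := reindex (e ∘ some) S

variable {V : S.Opens} (hV : IsAffineOpen V)

/-- The chart over an affine open. -/
def chart (n : Type u) : Spec (CommRingCat.of (MvPolynomial n Γ(S, V))) ⟶ 𝔸(n; S) :=
  (SpecIso n Γ(S, V)).inv ≫ AffineSpace.map n hV.fromSpec

instance (n : Type u) : IsOpenImmersion (chart hV n) := by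
  haveI : IsOpenImmersion (AffineSpace.map n hV.fromSpec) :=
    MorphismProperty.of_isPullback (P := @IsOpenImmersion) (isPullback_map hV.fromSpec).flip inferInstance
  exact inferInstanceAs (IsOpenImmersion (_ ≫ _))

theorem chart_coord (n : Type u) (i : n) :
    (chart hV n).appTop.hom (coord S i) = (Scheme.ΓSpecIso (.of _)).inv.hom (MvPolynomial.X i) := by
  rw [chart, Scheme.Hom.comp_appTop, CommRingCat.comp_apply, map_appTop_coord]
  exact SpecIso_inv_appTop_coord _ i

theorem chart_over (n : Type u) :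
    chart hV n ≫ 𝔸(n; S) ↘ S = Spec.map (CommRingCat.ofHom MvPolynomial.C) ≫ hV.fromSpec := by
  rw [chart, Category.assoc, map_over, ← Category.assoc, SpecIso_inv_over]

theorem exists_chart_point (n : Type u) (y : 𝔸(n; S)) (hy : (𝔸(n; S) ↘ S) y ∈ V) :
    ∃ P, chart hV n P = y := by
  have h0 : (𝔸(n; S) ↘ S) y ∈ Set.range hV.fromSpec := by rw [IsAffineOpen.range_fromSpec]; exact hy
  obtain ⟨v, hv⟩ := h0
  obtain ⟨z, hz, -⟩ := Scheme.exists_preimage_of_isPullback (isPullback_map (n := n) hV.fromSpec) y v hv.symm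
  refine ⟨(SpecIso n Γ(S, V)).hom z, ?_⟩
  rw [chart, ← Scheme.Hom.comp_apply, Iso.hom_inv_id_assoc]
  exact hz

/-- The ring map of the hyperplane. -/
abbrev phi : CommRingCat.of (MvPolynomial n Γ(S, V)) ⟶ CommRingCat.of (MvPolynomial m Γ(S, V)) :=
  CommRingCat.ofHom (setZero Γ(S, V) e).toRingHom

theorem chart_hyp : chart hV m ≫ hyp e S = Spec.map (phi e) ≫ chart hV n := by
  refine AffineSpace.hom_ext ?_ fun i => ?_
  · rw [Category.assoc, Category.assoc, hyp, homOfVector_over, chart_over, chart_over, ← Category.assoc,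
      ← Spec.map_comp]
    congr 2
    refine CommRingCat.hom_ext (RingHom.ext fun a => ?_)
    exact ((setZero Γ(S, V) e).commutes a).symm
  · rw [Scheme.Hom.comp_appTop, Scheme.Hom.comp_appTop, CommRingCat.comp_apply, CommRingCat.comp_apply, hyp,
      homOfVector_appTop_coord, chart_coord]
    have hn := congr($(Scheme.ΓSpecIso_inv_naturality (phi (V := V) e)).hom (MvPolynomial.X i))
    refine Eq.trans ?_ hn
    show _ = (Scheme.ΓSpecIso (CommRingCat.of (MvPolynomial m Γ(S, V)))).inv.hom ((setZero Γ(S, V) e) (MvPolynomial.X i))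
    rw [setZero, MvPolynomial.aeval_X]
    rcases e.symm i with _ | j
    · simp
    · exact chart_coord hV m j

theorem hyp_proj : hyp e S ≫ proj e S = 𝟙 𝔸(m; S) := by
  refine AffineSpace.hom_ext ?_ fun j => ?_
  · rw [Category.assoc, reindex_over, hyp, homOfVector_over, Category.id_comp]
  · rw [Scheme.Hom.comp_appTop, CommRingCat.comp_apply, reindex_appTop_coord, hyp, homOfVector_appTop_coord]
    simp

instance isAffineHom_proj : IsAffineHom (proj e S) := by
  haveI : IsAffineHom (proj e S ≫ 𝔸(m; S) ↘ S) := by rw [reindex_over]; infer_instance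
  exact IsAffineHom.of_comp (proj e S) (𝔸(m; S) ↘ S)

/-- The hyperplane is cut out by its coordinate. -/
theorem sec_hyp (S : Scheme.{u}) : Sec (proj e S) (hyp e S) (coord S (e none)) where
  sect := hyp_proj e
  closed := by
    haveI : IsClosedImmersion (hyp e S ≫ proj e S) := by rw [hyp_proj]; infer_instance
    exact IsClosedImmersion.of_comp (hyp e S) (proj e S)
  zero := by
    rw [hyp, homOfVector_appTop_coord]
    simp
  unit_of y hy := by
    obtain ⟨V, hV, hyV, -⟩ :=
      exists_isAffineOpen_mem_and_subset (x := (𝔸(n; S) ↘ S) y) (U := (⊤ : S.Opens)) trivial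
    obtain ⟨P, rfl⟩ := exists_chart_point hV n y hyV
    by_contra hu
    apply hy
    let φ : CommRingCat.of (MvPolynomial n Γ(S, V)) ⟶ CommRingCat.of (MvPolynomial m Γ(S, V)) := phi e
    have hP : (MvPolynomial.X (e none) : MvPolynomial n Γ(S, V)) ∈ P.asIdeal := by
      by_contra hP
      apply hu
      rw [← Scheme.mem_basicOpen _ _ _ (Set.mem_univ _)]
      show P ∈ chart hV n ⁻¹ᵁ (𝔸(n; S)).basicOpen (coord S (e none))
      rw [Scheme.preimage_basicOpen_top, chart_coord, basicOpen_eq_of_affine]
      exact hP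
    have hle : RingHom.ker φ.hom ≤ P.asIdeal := fun a ha =>
      (Ideal.span_singleton_le_iff_mem _).2 hP (ker_setZero _ e ha)
    have hsurj : Function.Surjective φ.hom := setZero_surjective _ e
    obtain ⟨q, hq⟩ : P ∈ Set.range (PrimeSpectrum.comap φ.hom) := by
      rw [range_comap_of_surjective _ _ hsurj]
      exact (PrimeSpectrum.mem_zeroLocus _ _).2 hle
    refine ⟨chart hV m q, ?_⟩
    exact (congr($(chart_hyp e hV).base q)).trans (congrArg (chart hV n).base hq)
  reg x := by
    obtain ⟨V, hV, hxV, -⟩ :=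
      exists_isAffineOpen_mem_and_subset (x := (𝔸(m; S) ↘ S) x) (U := (⊤ : S.Opens)) trivial
    obtain ⟨q, rfl⟩ := exists_chart_point hV m x hxV
    exact (transfer (hyp e S) (Spec.map (phi e)) (chart hV m) (chart hV n) (chart_hyp e hV) q _ _
      (chart_coord hV n (e none)) (reg_gSpec _ (isSMulRegular_X _ _) _)
      (ker_stalkMap_spec (phi e) _ q (setZero_surjective _ e) fun a ha => ker_setZero _ e ha)).1
  ker x := by
    obtain ⟨V, hV, hxV, -⟩ :=
      exists_isAffineOpen_mem_and_subset (x := (𝔸(m; S) ↘ S) x) (U := (⊤ : S.Opens)) trivial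
    obtain ⟨q, rfl⟩ := exists_chart_point hV m x hxV
    exact (transfer (hyp e S) (Spec.map (phi e)) (chart hV m) (chart hV n) (chart_hyp e hV) q _ _
      (chart_coord hV n (e none)) (reg_gSpec _ (isSMulRegular_X _ _) _)
      (ker_stalkMap_spec (phi e) _ q (setZero_surjective _ e) fun a ha => ker_setZero _ e ha)).2

end Groth.Agent.K0Hom
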