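import Groth.Agent.K0Hom.KGen
import Groth.Agent.PnReg.WedgeLine
import Groth.Agent.CurveRR.TmapR
import Groth.Agent.DerPerf.Local
import Groth.Agent.KFlat.ClosedImm
import Groth.Agent.KFlat.PullTensor
import Groth.Agent.ResDesc.Main

/-!
The maps `x ↦ E ⊗ p^* x` on classes of coherent modules and their behaviour under base change.
-/

set_option autoImplicit false
set_option linter.style.haveILetI false
set_option linter.unusedSectionVars false
set_option backward.isDefEq.respectTransparency false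
set_option backward.isDefEq.respectTransparency.types false

universe u

open CategoryTheory CategoryTheory.Limits AlgebraicGeometry TopologicalSpace Opposite

noncomputable section

attribute [local instance] Abelian.hasFiniteBiproducts

namespace Groth.Agent.K0Hom

variable {X Y : Scheme.{u}}

theorem isCoh_ten [IsNoetherian X] {E F : X.Modules} (hE : FlatMod.IsFinLocFree E) (hF : Coh.IsCoh F) :
    Coh.IsCoh (CohB1.tensorMod E F) :=
  CurveRR.isCoh_tensor' (K0Coh.isCoh_of_isFinLocFree hE) hF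

/-- Tensoring with a finite locally free module on classes. -/
def tenC [IsNoetherian X] (E : X.Modules) (hE : FlatMod.IsFinLocFree E) : SGA6.Kcoh X →+ SGA6.Kcoh X :=
  PnReg.liftSub (fun F => clM (CohB1.tensorMod E F.1)) fun S h₁ h₂ h₃ hS => by
    have g := fun {F : X.Modules} (h : Coh.IsCoh F) =>
      K0Coh.isCoh_of_iso (TMul.commIso E F) (isCoh_ten hE h)
    rw [clM_iso (TMul.commIso E S.X₁) (isCoh_ten hE h₁), clM_iso (TMul.commIso E S.X₂) (isCoh_ten hE h₂),
      clM_iso (TMul.commIso E S.X₃) (isCoh_ten hE h₃)]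
    exact K0Dev.cl_add _ (PnReg.shortExact_tensor hE hS) (g h₁) (g h₂) (g h₃)

theorem tenC_cl [IsNoetherian X] (E : X.Modules) (hE : FlatMod.IsFinLocFree E) {F : X.Modules} (hF : Coh.IsCoh F) :
    tenC E hE (clM F) = clM (CohB1.tensorMod E F) :=
  PnReg.liftSub_cl _ _ hF

/-- `x ↦ E ⊗ p^* x`. -/
def genE [IsNoetherian Y] (p : Y ⟶ X) [Flat p] (E : Y.Modules) (hE : FlatMod.IsFinLocFree E) :
    SGA6.Kcoh X →+ SGA6.Kcoh Y :=
  (tenC E hE).comp (pbF p)

theorem genE_cl [IsNoetherian Y] (p : Y ⟶ X) [Flat p] (E : Y.Modules) (hE : FlatMod.IsFinLocFree E) {M : X.Modules}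
    (hM : Coh.IsCoh M) : genE p E hE (clM M) = clM (CohB1.tensorMod E ((Scheme.Modules.pullback p).obj M)) := by
  rw [genE, AddMonoidHom.comp_apply, pbF_cl p hM, tenC_cl E hE (QC.isCoh_pullback p hM)]

theorem genE_unit [IsNoetherian X] [IsNoetherian Y] (p : Y ⟶ X) [Flat p] (E : Y.Modules) (hE : FlatMod.IsFinLocFree E) :
    genE p E hE (clM (Coh.structureModule X)) = clM E := by
  have hO : Coh.IsCoh (Coh.structureModule X) := K0Coh.isCoh_of_isFinLocFree (ResDesc.isFinLocFree_structureModule X)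
  rw [genE_cl p E hE hO]
  exact clM_iso (PicGrp.tensorModIso (Iso.refl E) (DerPerf.pullUnitIso p) ≪≫ TMul.commIso _ _ ≪≫ TMul.leftUnitIso E)
    (isCoh_ten hE (QC.isCoh_pullback p hO))

variable {X' Y' : Scheme.{u}}

/-- Compatibility with flat base change. -/
theorem pbF_genE [IsNoetherian Y] [IsNoetherian Y'] {p : Y ⟶ X} {p' : Y' ⟶ X'} [Flat p] [Flat p']
    (g : X' ⟶ X) (g' : Y' ⟶ Y) [Flat g] [Flat g'] (w : g' ≫ p = p' ≫ g) {E : Y.Modules} (hE : FlatMod.IsFinLocFree E)
    {E' : Y'.Modules} (hE' : FlatMod.IsFinLocFree E') (e : (Scheme.Modules.pullback g').obj E ≅ E')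
    (x : SGA6.Kcoh X) : pbF g' (genE p E hE x) = genE p' E' hE' (pbF g x) := by
  refine DFunLike.congr_fun (K0Filt.hom_ext_cl _ (f := (pbF g').comp (genE p E hE))
    (g := (genE p' E' hE').comp (pbF g)) fun M hM => ?_) x
  show pbF g' (genE p E hE (clM M)) = genE p' E' hE' (pbF g (clM M))
  rw [genE_cl p E hE hM, pbF_cl g hM, genE_cl p' E' hE' (QC.isCoh_pullback g hM),
    pbF_cl g' (isCoh_ten hE (QC.isCoh_pullback p hM))]
  exact clM_iso ((KFlat.pullTensorIso g' E ((Scheme.Modules.pullback p).obj M)).symm ≪≫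
    PicGrp.tensorModIso e ((Scheme.Modules.pullbackComp g' p).app M ≪≫ (Scheme.Modules.pullbackCongr w).app M ≪≫
      ((Scheme.Modules.pullbackComp p' g).app M).symm))
    (QC.isCoh_pullback g' (isCoh_ten hE (QC.isCoh_pullback p hM)))

/-- Compatibility with direct image along closed immersions. -/
theorem pushC_genE [IsNoetherian X] [IsNoetherian X'] [IsNoetherian Y] [IsNoetherian Y'] {p : Y ⟶ X} {p' : Y' ⟶ X'}
    [Flat p] [Flat p'] {g : X' ⟶ X} {g' : Y' ⟶ Y} [IsClosedImmersion g] [IsClosedImmersion g']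
    (w : IsPullback g' p' p g) {E : Y.Modules} (hE : FlatMod.IsFinLocFree E) {E' : Y'.Modules}
    (hE' : FlatMod.IsFinLocFree E') (e : (Scheme.Modules.pullback g').obj E ≅ E') (x : SGA6.Kcoh X') :
    pushC g' (genE p' E' hE' x) = genE p E hE (pushC g x) := by
  refine DFunLike.congr_fun (K0Filt.hom_ext_cl _ (f := (pushC g').comp (genE p' E' hE'))
    (g := (genE p E hE).comp (pushC g)) fun M hM => ?_) x
  show pushC g' (genE p' E' hE' (clM M)) = genE p E hE (pushC g (clM M))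
  have hgM : Coh.IsCoh ((Scheme.Modules.pushforward g).obj M) := (K0Dev.supp_push g hM).1
  rw [genE_cl p' E' hE' hM, pushC_cl g hM, genE_cl p E hE hgM,
    pushC_cl g' (isCoh_ten hE' (QC.isCoh_pullback p' hM))]
  obtain ⟨b⟩ := nonempty_pullback_push w M
  refine (clM_iso ?_ (isCoh_ten hE (QC.isCoh_pullback p hgM))).symm
  exact PicGrp.tensorModIso (Iso.refl E) b ≪≫ TMul.commIso _ _ ≪≫
    KFlat.projFormulaIso g' _ E ≪≫ (Scheme.Modules.pushforward g').mapIso
      (PicGrp.tensorModIso (Iso.refl _) e ≪≫ TMul.commIso _ _)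

/-- All classes coming from a family. -/
def sumGen [IsNoetherian Y] (p : Y ⟶ X) [Flat p] {m : ℕ} (E : Fin m → Y.Modules)
    (hE : ∀ i, FlatMod.IsFinLocFree (E i)) : (Fin m → SGA6.Kcoh X) →+ SGA6.Kcoh Y where
  toFun x := ∑ i, genE p (E i) (hE i) (x i)
  map_zero' := by simp
  map_add' x y := by simp [Finset.sum_add_distrib]

theorem sumGen_apply [IsNoetherian Y] (p : Y ⟶ X) [Flat p] {m : ℕ} (E : Fin m → Y.Modules)
    (hE : ∀ i, FlatMod.IsFinLocFree (E i)) (x : Fin m → SGA6.Kcoh X) :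
    sumGen p E hE x = ∑ i, genE p (E i) (hE i) (x i) := rfl

theorem pbF_sumGen [IsNoetherian Y] [IsNoetherian Y'] {p : Y ⟶ X} {p' : Y' ⟶ X'} [Flat p] [Flat p']
    (g : X' ⟶ X) (g' : Y' ⟶ Y) [Flat g] [Flat g'] (w : g' ≫ p = p' ≫ g) {m : ℕ} {E : Fin m → Y.Modules}
    (hE : ∀ i, FlatMod.IsFinLocFree (E i)) {E' : Fin m → Y'.Modules} (hE' : ∀ i, FlatMod.IsFinLocFree (E' i))
    (e : ∀ i, (Scheme.Modules.pullback g').obj (E i) ≅ E' i) (x : Fin m → SGA6.Kcoh X) :
    pbF g' (sumGen p E hE x) = sumGen p' E' hE' (fun i => pbF g (x i)) := by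
  rw [sumGen_apply, sumGen_apply, map_sum]
  exact Finset.sum_congr rfl fun i _ => pbF_genE g g' w (hE i) (hE' i) (e i) (x i)

theorem pushC_sumGen [IsNoetherian X] [IsNoetherian X'] [IsNoetherian Y] [IsNoetherian Y'] {p : Y ⟶ X}
    {p' : Y' ⟶ X'} [Flat p] [Flat p'] {g : X' ⟶ X} {g' : Y' ⟶ Y} [IsClosedImmersion g] [IsClosedImmersion g']
    (w : IsPullback g' p' p g) {m : ℕ} {E : Fin m → Y.Modules} (hE : ∀ i, FlatMod.IsFinLocFree (E i))
    {E' : Fin m → Y'.Modules} (hE' : ∀ i, FlatMod.IsFinLocFree (E' i))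
    (e : ∀ i, (Scheme.Modules.pullback g').obj (E i) ≅ E' i) (x : Fin m → SGA6.Kcoh X') :
    pushC g' (sumGen p' E' hE' x) = sumGen p E hE (fun i => pushC g (x i)) := by
  rw [sumGen_apply, sumGen_apply, map_sum]
  exact Finset.sum_congr rfl fun i _ => pushC_genE w (hE i) (hE' i) (e i) (x i)

end Groth.Agent.K0Hom
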