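import Groth.Prelude.Def_KZero
import Mathlib
import Groth.Agent.K0Dev.Abstract

/-!
The Grothendieck group of finite modules over a polynomial ring in one variable is generated by extended modules.
-/

set_option autoImplicit false
set_option linter.style.haveILetI false
set_option linter.unusedSectionVars false
set_option backward.isDefEq.respectTransparency false

universe u

open CategoryTheory CategoryTheory.Limits Polynomial
open scoped TensorProduct

noncomputable section

attribute [local instance] Abelian.hasFiniteBiproducts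

namespace Groth.Agent.K0Hom

variable {A : Type u} [CommRing A] [IsNoetherianRing A]

/-- Finite modules. -/
abbrev finP (R : Type u) [CommRing R] : ObjectProperty (ModuleCat.{u} R) := fun M => Module.Finite R M

/-- The class of a finite module. -/
abbrev clF (R : Type u) [CommRing R] (N : Type u) [AddCommGroup N] [Module R N] : KZero.K0sub (finP R) :=
  KZero.clSub (finP R) (ModuleCat.of R N)

theorem clF_exact {R : Type u} [CommRing R] {N₁ N₂ N₃ : Type u} [AddCommGroup N₁] [Module R N₁]
    [Module.Finite R N₁] [AddCommGroup N₂] [Module R N₂] [Module.Finite R N₂] [AddCommGroup N₃] [Module R N₃]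
    [Module.Finite R N₃] (f : N₁ →ₗ[R] N₂) (g : N₂ →ₗ[R] N₃) (hf : Function.Injective f)
    (hg : Function.Surjective g) (h : Function.Exact f g) : clF R N₂ = clF R N₁ + clF R N₃ :=
  K0Dev.cl_add (finP R) (S := ShortComplex.mk (ModuleCat.ofHom f) (ModuleCat.ofHom g)
      (ModuleCat.hom_ext h.linearMap_comp_eq_zero))
    { exact := (ShortComplex.ShortExact.moduleCat_exact_iff_function_exact _).2 h
      mono_f := (ModuleCat.mono_iff_injective _).2 hf
      epi_g := (ModuleCat.epi_iff_surjective _).2 hg }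
    ‹Module.Finite R N₁› ‹Module.Finite R N₂› ‹Module.Finite R N₃›

theorem clF_subsingleton {R : Type u} [CommRing R] (N : Type u) [AddCommGroup N] [Module R N] [Subsingleton N] :
    clF R N = 0 :=
  K0Dev.cl_zero (ModuleCat.isZero_of_subsingleton _)

theorem clF_equiv {R : Type u} [CommRing R] {N N' : Type u} [AddCommGroup N] [Module R N] [AddCommGroup N']
    [Module R N'] [Module.Finite R N] (e : N ≃ₗ[R] N') : clF R N = clF R N' := by
  haveI : Module.Finite R N' := Module.Finite.equiv e
  have h := clF_exact e.toLinearMap (0 : N' →ₗ[R] PUnit.{u + 1}) e.injective (Function.surjective_to_subsingleton _)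
    ((e.toLinearMap.exact_zero_iff_surjective _).2 e.surjective)
  rw [clF_subsingleton PUnit.{u + 1}, add_zero] at h
  exact h.symm

variable (A) in
/-- The span of the extended classes. -/
def extH : AddSubgroup (KZero.K0sub (finP A[X])) :=
  AddSubgroup.closure {x | ∃ I : Ideal A, x = clF A[X] (A[X] ⧸ I.map (C : A →+* A[X]))}

/-- A module lies in the span as soon as the primes of its support do. -/
theorem mem_extH_of_primes (N : Type u) [AddCommGroup N] [Module A[X] N] [Module.Finite A[X] N]
    (h : ∀ P : PrimeSpectrum A[X], Module.annihilator A[X] N ≤ P.asIdeal → clF A[X] (A[X] ⧸ P.asIdeal) ∈ extH A) :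
    clF A[X] N ∈ extH A := by
  revert h
  refine IsNoetherianRing.induction_on_isQuotientEquivQuotientPrime (A := A[X]) (M := N) inferInstance
    (motive := fun N => (∀ P : PrimeSpectrum A[X], Module.annihilator A[X] N ≤ P.asIdeal →
      clF A[X] (A[X] ⧸ P.asIdeal) ∈ extH A) → clF A[X] N ∈ extH A)
    (fun N _ _ _ _ _ => by rw [clF_subsingleton N]; exact zero_mem _)
    (fun N _ _ _ p e h => by
      rw [clF_equiv e]
      refine h p ?_
      rw [e.annihilator_eq]
      intro a ha
      rw [Ideal.annihilator_quotient] at ha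
      exact ha)
    (fun N₁ _ _ _ N₂ _ _ _ N₃ _ _ _ f g hf hg hfg h₁ h₃ h => by
      rw [clF_exact f g hf hg hfg]
      exact add_mem (h₁ fun P hP => h P ((f.annihilator_le_of_injective hf).trans hP))
        (h₃ fun P hP => h P ((g.annihilator_le_of_surjective hg).trans hP)))

/-- Powers of the leading coefficient carry the prime into the ideal of one of its polynomials. -/
theorem exists_pow_mul_mem (P : Ideal A[X]) (f : A[X]) (hf : f ∈ P) (J : Ideal A[X]) (c : A) (d : ℕ)
    (hd : f.natDegree ≤ d) (hc : f.coeff d = c)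
    (hfJ : f ∈ J) (hp : ∀ a ∈ P.comap (C : A →+* A[X]), C a ∈ J)
    (hmin : ∀ g ∈ P, g.natDegree < d → g ∈ J) (p : A[X]) (hpP : p ∈ P) : ∃ n : ℕ, C (c ^ n) * p ∈ J := by
  have key : ∀ k : ℕ, ∀ p : A[X], p ∈ P → p.natDegree < k + d → ∃ n : ℕ, C (c ^ n) * p ∈ J := by
    intro k
    induction k with
    | zero =>
      intro p hpP hk
      exact ⟨0, by rw [pow_zero, map_one, one_mul]; exact hmin p hpP (by omega)⟩
    | succ k ih =>
      intro p hpP hk
      let a := p.coeff (k + d)
      let p' := C c * p - C a * X ^ k * f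
      have hp' : p' ∈ P := sub_mem (Ideal.mul_mem_left _ _ hpP) (Ideal.mul_mem_left _ _ hf)
      have hle : p'.natDegree ≤ k + d := by
        refine (natDegree_sub_le _ _).trans (max_le ((natDegree_C_mul_le _ _).trans (by omega)) ?_)
        refine natDegree_mul_le.trans (Nat.add_le_add ?_ hd)
        exact (natDegree_C_mul_le _ _).trans (natDegree_X_pow_le _)
      have hco : p'.coeff (k + d) = 0 := by
        have hx : (X ^ k * f).coeff (k + d) = c := by rw [add_comm k d, Polynomial.coeff_X_pow_mul, hc]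
        rw [coeff_sub, coeff_C_mul, mul_assoc, coeff_C_mul, hx, mul_comm c, sub_self]
      by_cases hz : p'.natDegree < k + d
      · obtain ⟨n, hn⟩ := ih p' hp' hz
        refine ⟨n + 1, ?_⟩
        have e : C (c ^ (n + 1)) * p = C (c ^ n) * p' + C (c ^ n) * (C a * X ^ k) * f := by
          simp only [p', pow_succ, map_mul]
          ring
        rw [e]
        exact add_mem hn (Ideal.mul_mem_left _ _ hfJ)
      · have heq : p'.natDegree = k + d := le_antisymm hle (not_lt.1 hz)
        have h0 : p' = 0 := by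
          by_contra hne
          exact leadingCoeff_ne_zero.2 hne (by rw [leadingCoeff, heq, hco])
        refine ⟨1, ?_⟩
        have e : C (c ^ 1) * p = C a * X ^ k * f := by rw [pow_one]; exact sub_eq_zero.1 h0
        rw [e]
        exact Ideal.mul_mem_left _ _ hfJ
  exact key (p.natDegree + 1) p hpP (by omega)

/-- Every prime quotient lies in the span. -/
theorem quot_prime_mem_extH (P : PrimeSpectrum A[X]) : clF A[X] (A[X] ⧸ P.asIdeal) ∈ extH A := by
  suffices ∀ 𝔭 : Ideal A, ∀ P : PrimeSpectrum A[X], P.asIdeal.comap (C : A →+* A[X]) = 𝔭 →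
      clF A[X] (A[X] ⧸ P.asIdeal) ∈ extH A from this _ P rfl
  intro 𝔭
  induction 𝔭 using IsNoetherian.induction with
  | _ 𝔭 ih =>
    rintro ⟨P, hP⟩ rfl
    dsimp only at ih ⊢
    set 𝔭 := P.comap (C : A →+* A[X]) with h𝔭
    let J₀ : Ideal A[X] := 𝔭.map (C : A →+* A[X])
    have hJ₀ : J₀ ≤ P := Ideal.map_comap_le
    by_cases hext : P ≤ J₀
    · exact AddSubgroup.subset_closure ⟨𝔭, clF_equiv (Submodule.quotEquivOfEq _ _ (le_antisymm hext hJ₀))⟩
    have hex : ∃ d, ∃ g ∈ P, g ∉ J₀ ∧ g.natDegree = d := by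
      obtain ⟨g, hg, hg'⟩ := Set.not_subset.1 hext
      exact ⟨_, g, hg, hg', rfl⟩
    classical
    let d := Nat.find hex
    obtain ⟨f, hfP, hfJ₀, hfd⟩ : ∃ g ∈ P, g ∉ J₀ ∧ g.natDegree = d := Nat.find_spec hex
    have hmin₀ : ∀ g ∈ P, g.natDegree < d → g ∈ J₀ := fun g hg hlt => by
      by_contra h
      exact Nat.find_min hex hlt ⟨g, hg, h, rfl⟩
    have memJ₀ : ∀ g : A[X], g ∈ J₀ ↔ ∀ n, g.coeff n ∈ 𝔭 := fun g => Ideal.mem_map_C_iff
    let c := f.coeff d
    have hc : c ∉ 𝔭 := fun hc => by
      have he : f - f.eraseLead = C c * X ^ d := by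
        rw [sub_eq_iff_eq_add, add_comm]
        conv_lhs => rw [← f.eraseLead_add_C_mul_X_pow]
        rw [leadingCoeff, hfd]
      have h1 : C c * X ^ d ∈ J₀ := Ideal.mul_mem_right _ _ (Ideal.mem_map_of_mem _ hc)
      have h2 : f.eraseLead ∈ P := by
        rw [← he] at h1
        simpa using sub_mem hfP (hJ₀ h1)
      rcases Nat.eq_zero_or_pos d with hd0 | hd0
      · exact hfJ₀ ((memJ₀ f).2 fun n => by
          rcases Nat.eq_zero_or_pos n with hn | hn
          · subst hn; exact hd0 ▸ hc
          · rw [coeff_eq_zero_of_natDegree_lt (by omega)]; exact zero_mem _)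
      · have h3 : f.eraseLead.natDegree < d := by
          have := f.eraseLead_natDegree_le
          omega
        have h4 := add_mem h1 (hmin₀ _ h2 h3)
        rw [← he, sub_add_cancel] at h4
        exact hfJ₀ h4
    let J : Ideal A[X] := J₀ ⊔ Ideal.span {f}
    have hfJ : f ∈ J := Ideal.mem_sup_right (Ideal.mem_span_singleton_self f)
    have hJP : J ≤ P := sup_le hJ₀ ((Ideal.span_singleton_le_iff_mem _).2 hfP)
    have hpr : 𝔭.IsPrime := Ideal.IsPrime.comap _
    haveI := hpr
    haveI : J₀.IsPrime := Ideal.isPrime_map_C_of_isPrime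
    let mf : (A[X] ⧸ J₀) →ₗ[A[X]] A[X] ⧸ J₀ := f • LinearMap.id
    let q : (A[X] ⧸ J₀) →ₗ[A[X]] A[X] ⧸ J := Submodule.factor le_sup_left
    have hzero : clF A[X] (A[X] ⧸ J) = 0 := by
      refine left_eq_add.mp (clF_exact mf q ?_ ?_ ?_)
      · refine fun a b hab => ?_
        obtain ⟨a, rfl⟩ := Ideal.Quotient.mk_surjective a
        obtain ⟨b, rfl⟩ := Ideal.Quotient.mk_surjective b
        have h1 : Ideal.Quotient.mk J₀ (f * a) = Ideal.Quotient.mk J₀ (f * b) := hab
        rw [Ideal.Quotient.eq, ← mul_sub] at h1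
        exact Ideal.Quotient.eq.2 ((‹J₀.IsPrime›.mem_or_mem h1).resolve_left hfJ₀)
      · exact Submodule.factor_surjective le_sup_left
      · intro z
        obtain ⟨z, rfl⟩ := Ideal.Quotient.mk_surjective z
        refine ⟨fun hz => ?_, ?_⟩
        · have hz' : z ∈ J := (Submodule.Quotient.mk_eq_zero J).1 hz
          obtain ⟨a, ha, b, hb, rfl⟩ := Submodule.mem_sup.1 hz'
          obtain ⟨b, rfl⟩ := Ideal.mem_span_singleton'.1 hb
          refine ⟨Ideal.Quotient.mk J₀ b, ?_⟩
          show Ideal.Quotient.mk J₀ (f * b) = _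
          rw [Ideal.Quotient.eq]
          simpa [mul_comm] using neg_mem ha
        · rintro ⟨w, hw⟩
          obtain ⟨w, rfl⟩ := Ideal.Quotient.mk_surjective w
          rw [← hw]
          exact (Submodule.Quotient.mk_eq_zero J).2 (Ideal.mul_mem_right _ _ hfJ)
    let r : (A[X] ⧸ J) →ₗ[A[X]] A[X] ⧸ P := Submodule.factor hJP
    have hK := clF_exact (LinearMap.ker r).subtype r Subtype.val_injective (Submodule.factor_surjective hJP)
      (LinearMap.exact_subtype_ker_map r)
    rw [hzero] at hK
    rw [show clF A[X] (A[X] ⧸ P) = -clF A[X] (LinearMap.ker r) from eq_neg_of_add_eq_zero_right hK.symm]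
    refine neg_mem (mem_extH_of_primes _ fun Q hQ => ?_)
    refine ih (Q.asIdeal.comap C) ?_ Q rfl
    have hann : ∀ g : A[X], (∀ p ∈ P, g * p ∈ J) → g ∈ Q.asIdeal := fun g hg => hQ (by
      rw [Module.mem_annihilator]
      rintro ⟨z, hz⟩
      obtain ⟨z, rfl⟩ := Ideal.Quotient.mk_surjective z
      exact Subtype.ext ((Submodule.Quotient.mk_eq_zero J).2 (hg z ((Submodule.Quotient.mk_eq_zero P).1 hz))))
    refine lt_of_le_of_ne (fun a ha => hann _ fun p _ => ?_) fun heq => ?_
    · exact Ideal.mul_mem_right _ _ (Ideal.mem_sup_left (Ideal.mem_map_of_mem _ ha))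
    · have hJp : ∀ a ∈ P.comap (C : A →+* A[X]), C a ∈ J := fun a ha =>
        Ideal.mem_sup_left (Ideal.mem_map_of_mem _ ha)
      have hpow : ∀ p ∈ P, ∃ n, C (c ^ n) * p ∈ J := fun p hp =>
        exists_pow_mul_mem P f hfP J c d hfd.le rfl hfJ hJp
          (fun g hg hlt => Ideal.mem_sup_left (hmin₀ g hg hlt)) p hp
      obtain ⟨s, hs⟩ := IsNoetherian.noetherian P
      have hmem : ∀ g ∈ s, g ∈ P := fun g hg => hs ▸ Submodule.subset_span hg
      choose n hn using fun g : s => hpow g.1 (hmem g.1 g.2)
      let N := Finset.univ.sup n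
      have hC : C (c ^ N) ∈ Q.asIdeal := hann _ fun p hp => by
        have hle : P ≤ J.colon ({C (c ^ N)} : Set A[X]) := by
          rw [← hs, Submodule.span_le]
          intro g hg
          rw [SetLike.mem_coe, Submodule.mem_colon_singleton, smul_eq_mul, mul_comm,
            show c ^ N = c ^ (N - n ⟨g, hg⟩) * c ^ n ⟨g, hg⟩ by
              rw [← pow_add, Nat.sub_add_cancel (Finset.le_sup (f := n) (Finset.mem_univ _))], map_mul, mul_assoc]
          exact Ideal.mul_mem_left _ _ (hn ⟨g, hg⟩)
        have h5 := Submodule.mem_colon_singleton.1 (hle hp)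
        rwa [smul_eq_mul, mul_comm] at h5
      have hcQ : c ∈ Q.asIdeal.comap C :=
        (Q.isPrime.comap (C : A →+* A[X])).mem_of_pow_mem N hC
      rw [← heq] at hcQ
      exact hc hcQ

/-- Every finite module lies in the span of the extended ones. -/
theorem mem_extH (N : Type u) [AddCommGroup N] [Module A[X] N] [Module.Finite A[X] N] : clF A[X] N ∈ extH A :=
  mem_extH_of_primes N fun P _ => quot_prime_mem_extH P

end Groth.Agent.K0Hom
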