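import Groth.Agent.K0Hom.PbF
import Groth.Agent.K0Hom.PolyK0
import Groth.Agent.ExtShX.AffineTilde
import Groth.Agent.K0Coh.Regular
import Groth.Agent.DivDescMod.AffineOpen
import Groth.Agent.PBReg.CohTwist

/-!
Inverse image to the affine line is surjective on the Grothendieck groups of coherent modules.
-/

set_option autoImplicit false
set_option linter.style.haveILetI false
set_option linter.unusedSectionVars false
set_option backward.isDefEq.respectTransparency false
set_option backward.isDefEq.respectTransparency.types false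

universe u

open CategoryTheory CategoryTheory.Limits AlgebraicGeometry TopologicalSpace Opposite
open scoped TensorProduct

noncomputable section

attribute [local instance] Abelian.hasFiniteBiproducts

namespace Groth.Agent.K0Hom

section Affine

variable (R : Type u) [CommRing R] [IsNoetherianRing R]

/-- Finite modules to coherent modules on the spectrum. -/
def theta : KZero.K0sub (finP R) →+ SGA6.Kcoh (Spec (CommRingCat.of R)) :=
  PnReg.liftSub (fun N => clM (tilde (R := CommRingCat.of R) N.1)) fun S h₁ h₂ h₃ hS => by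
    haveI : PreservesFiniteLimits (tilde.functor (CommRingCat.of R)) := QC.tilde_preservesFiniteLimits
    haveI : PreservesColimitsOfSize.{0, 0} (tilde.functor (CommRingCat.of R)) :=
      (tilde.adjunction).leftAdjoint_preservesColimits
    haveI : PreservesFiniteColimits (tilde.functor (CommRingCat.of R)) :=
      PreservesColimitsOfSize.preservesFiniteColimits _
    haveI : Module.Finite R S.X₁ := h₁
    haveI : Module.Finite R S.X₂ := h₂
    haveI : Module.Finite R S.X₃ := h₃
    exact K0Dev.cl_add _ (hS.map_of_exact (tilde.functor (CommRingCat.of R))) (ExtShX.isCoh_tilde R _)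
      (ExtShX.isCoh_tilde R _) (ExtShX.isCoh_tilde R _)

theorem theta_cl (N : ModuleCat.{u} R) [h : Module.Finite R N] :
    theta R (KZero.clSub (finP R) N) = clM (tilde (R := CommRingCat.of R) N) :=
  PnReg.liftSub_cl (P := finP R) _ _ (M := N) h

theorem theta_surjective : Function.Surjective (theta R) := fun y => by
  refine PnReg.sub_induction (P := fun M : (Spec (CommRingCat.of R)).Modules => Coh.IsCoh M)
    (Q := fun y => ∃ x, theta R x = y) ⟨0, map_zero _⟩ (fun x ⟨a, ha⟩ => ⟨-a, by rw [map_neg, ha]⟩)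
    (fun x y ⟨a, ha⟩ ⟨b, hb⟩ => ⟨a + b, by rw [map_add, ha, hb]⟩) (fun F hF => ?_) y
  haveI : F.IsQuasicoherent := hF.1
  haveI : IsNoetherian (Spec (CommRingCat.of R)) := inferInstance
  let N := (moduleSpecΓFunctor (R := CommRingCat.of R)).obj F
  haveI : Module.Finite R N := K0Coh.finite_gamma hF
  refine ⟨KZero.clSub (finP R) N, ?_⟩
  rw [theta_cl]
  exact clM_iso (QC.isoTildeΓ F) (ExtShX.isCoh_tilde R N)

variable (A : Type u) [CommRing A] [IsNoetherianRing A]

/-- The projection of the affine line over a ring. -/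
abbrev specC : Spec (CommRingCat.of (Polynomial A)) ⟶ Spec (CommRingCat.of A) :=
  Spec.map (CommRingCat.ofHom (Polynomial.C : A →+* Polynomial A))

instance flat_specC : Flat (specC A) := by
  rw [HasRingHomProperty.Spec_iff (P := @Flat)]
  exact RingHom.flat_algebraMap_iff.mpr (inferInstanceAs (Module.Flat A (Polynomial A)))

theorem surjective_pbF_specC : Function.Surjective (pbF (specC A)) := by
  intro y
  obtain ⟨x, rfl⟩ := theta_surjective (Polynomial A) y
  suffices x ∈ AddSubgroup.comap (theta (Polynomial A)) (pbF (specC A)).range from this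
  refine PnReg.sub_induction (P := finP (Polynomial A)) (Q := fun x => x ∈ _) (zero_mem _) (fun x h => neg_mem h)
    (fun x y hx hy => add_mem hx hy) (fun N hN => ?_) x
  haveI : Module.Finite (Polynomial A) N := hN
  refine (show extH A ≤ _ from ?_) (mem_extH (A := A) N)
  rw [extH, AddSubgroup.closure_le]
  rintro _ ⟨I, rfl⟩
  let C' : A →+* Polynomial A := Polynomial.C
  let T : ModuleCat.{u} A := ModuleCat.of A (A ⧸ I)
  let E := (ModuleCat.extendScalars.{u, u, u} C').obj T
  haveI : Module.Finite (Polynomial A) (Polynomial A ⧸ I.map C') := inferInstance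
  let e : (Polynomial A ⧸ I.map C') ≃ₗ[Polynomial A] E :=
    letI : Algebra A (Polynomial A) := C'.toAlgebra
    (Algebra.TensorProduct.quotIdealMapEquivTensorQuot (A := A) (Polynomial A) I).toLinearEquiv
  haveI : Module.Finite (Polynomial A) E := Module.Finite.equiv e
  haveI : Module.Finite A T := inferInstanceAs (Module.Finite A (A ⧸ I))
  refine ⟨clM (tilde (R := CommRingCat.of A) T), ?_⟩
  rw [pbF_cl _ (ExtShX.isCoh_tilde A T)]
  refine Eq.trans ?_ (congrArg (theta (Polynomial A)) (clF_equiv e)).symm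
  refine Eq.trans ?_ (theta_cl (Polynomial A) E).symm
  exact clM_iso ((QC.pullbackTildeIso (CommRingCat.ofHom C')).app T)
    (QC.isCoh_pullback _ (ExtShX.isCoh_tilde A T))

end Affine

open AffineSpace

variable {T : Scheme.{u}}

instance flat_over (n : Type u) (T : Scheme.{u}) : Flat (𝔸(n; T) ↘ T) := DivDescMod.flat_affineSpace n T

/-- The affine line is surjective over affine bases. -/
theorem surjective_A1_affine [IsAffine T] [IsNoetherian T] :
    Function.Surjective (pbF (𝔸(PUnit.{u + 1}; T) ↘ T)) := by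
  let A := Γ(T, ⊤)
  haveI : IsNoetherianRing A := IsLocallyNoetherian.component_noetherian ⟨⊤, isAffineOpen_top T⟩
  haveI := isNoetherian_affineSpace PUnit.{u + 1} T
  let w₀ : Spec (CommRingCat.of (Polynomial A)) ≅ Spec (CommRingCat.of (MvPolynomial PUnit.{u + 1} A)) :=
    Scheme.Spec.mapIso (MvPolynomial.uniqueAlgEquiv A PUnit.{u + 1}).toRingEquiv.toCommRingCatIso.op
  haveI : IsIso (AffineSpace.map PUnit.{u + 1} T.isoSpec.inv) :=
    (isPullback_map T.isoSpec.inv).isIso_fst_of_isIso
  let w : Spec (CommRingCat.of (Polynomial A)) ≅ 𝔸(PUnit.{u + 1}; T) :=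
    w₀ ≪≫ (SpecIso PUnit.{u + 1} A).symm ≪≫ asIso (AffineSpace.map PUnit.{u + 1} T.isoSpec.inv)
  have hw : w.hom ≫ (𝔸(PUnit.{u + 1}; T) ↘ T) = specC A ≫ T.isoSpec.inv := by
    simp only [w, Iso.trans_hom, Iso.symm_hom, asIso_hom, Category.assoc, map_over, SpecIso_inv_over_assoc]
    rw [← Category.assoc]
    congr 1
    show Spec.map _ ≫ Spec.map _ = Spec.map _
    rw [← Spec.map_comp]
    congr 1
    refine CommRingCat.hom_ext (RingHom.ext fun a => ?_)
    exact (MvPolynomial.uniqueAlgEquiv A PUnit.{u + 1}).commutes a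
  intro y
  obtain ⟨a, ha⟩ := surjective_pbF_specC A (pbF w.hom y)
  obtain ⟨x, rfl⟩ := (bijective_pbF_iso T.isoSpec.symm).2 a
  refine ⟨x, (bijective_pbF_iso w).1 ?_⟩
  rw [← pbF_comp, pbF_congr hw, pbF_comp]
  exact ha

theorem isPullback_map' {S : Scheme.{u}} (f : S ⟶ T) :
    IsPullback (AffineSpace.map PUnit.{u + 1} f) (𝔸(PUnit.{u + 1}; S) ↘ S) (𝔸(PUnit.{u + 1}; T) ↘ T) f :=
  isPullback_map f

theorem range_map {S : Scheme.{u}} (f : S ⟶ T) :
    Set.range (AffineSpace.map PUnit.{u + 1} f) = (𝔸(PUnit.{u + 1}; T) ↘ T) ⁻¹' Set.range f := by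
  ext y
  refine ⟨fun ⟨z, hz⟩ => ⟨(𝔸(PUnit.{u + 1}; S) ↘ S) z, ?_⟩, fun ⟨v, hv⟩ => ?_⟩
  · rw [← hz]
    exact (congr($((isPullback_map' f).w).base z)).symm
  · obtain ⟨z, hz, -⟩ := Scheme.exists_preimage_of_isPullback (isPullback_map' f) y v hv.symm
    exact ⟨z, hz⟩

/-- The affine line is surjective. -/
theorem surjective_A1 (T : Scheme.{u}) [IsNoetherian T] :
    Function.Surjective (pbF (𝔸(PUnit.{u + 1}; T) ↘ T)) := by
  suffices ∀ (C : Closeds T) (Z : Scheme.{u}) (_ : IsNoetherian Z) (i : Z ⟶ T) (_ : IsClosedImmersion i),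
      Set.range i ⊆ C → Function.Surjective (pbF (𝔸(PUnit.{u + 1}; Z) ↘ Z)) from
    this ⊤ T ‹_› (𝟙 T) inferInstance (Set.subset_univ _)
  intro C
  induction C using WellFoundedLT.induction with
  | ind C ih =>
    intro Z _ i _ hi
    haveI := isNoetherian_affineSpace PUnit.{u + 1} Z
    by_cases hne : IsEmpty ↥Z
    · haveI : IsEmpty ↥(𝔸(PUnit.{u + 1}; Z)) := Function.isEmpty (𝔸(PUnit.{u + 1}; Z) ↘ Z).base
      haveI := PBReg.subsingleton_kcoh 𝔸(PUnit.{u + 1}; Z)
      exact fun y => ⟨0, Subsingleton.elim _ _⟩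
    obtain ⟨z⟩ := not_isEmpty_iff.1 hne
    obtain ⟨V, hV, hzV, -⟩ := exists_isAffineOpen_mem_and_subset (x := z) (U := (⊤ : Z.Opens)) trivial
    haveI : IsNoetherian V.toScheme := LocImmFT.isNoetherian_opens V
    haveI : IsAffine V.toScheme := hV
    let D : Closeds Z := ⟨(V : Set Z)ᶜ, V.2.isClosed_compl⟩
    let I := Scheme.IdealSheafData.vanishingIdeal D
    let k : I.subscheme ⟶ Z := I.subschemeι
    have hk : Set.range k = (V : Set Z)ᶜ := by
      show Set.range I.subschemeι = _
      rw [Scheme.IdealSheafData.range_subschemeι]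
      exact Scheme.IdealSheafData.coe_support_vanishingIdeal D
    haveI : IsNoetherian I.subscheme := by
      haveI : IsLocallyNoetherian I.subscheme := LocallyOfFiniteType.isLocallyNoetherian k
      haveI : CompactSpace I.subscheme := QuasiCompact.compactSpace_of_compactSpace k
      exact {}
    let C' : Closeds T := ⟨Set.range (k ≫ i), (k ≫ i).isClosedEmbedding.isClosed_range⟩
    have hlt : C' < C := by
      refine lt_of_le_of_ne (fun y hy => ?_) fun he => ?_
      · obtain ⟨w, rfl⟩ := hy
        exact hi ⟨k w, rfl⟩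
      · have hmem : i z ∈ (C' : Set T) := he ▸ hi ⟨z, rfl⟩
        obtain ⟨w, hw⟩ := hmem
        have : k w = z := i.isClosedEmbedding.injective hw
        have hnz : z ∉ Set.range k := by rw [hk]; exact fun h => h hzV
        exact hnz ⟨w, this⟩
    haveI := isNoetherian_affineSpace PUnit.{u + 1} I.subscheme
    haveI := isNoetherian_affineSpace PUnit.{u + 1} V.toScheme
    have hW := ih C' hlt I.subscheme inferInstance (k ≫ i) inferInstance subset_rfl
    let j := AffineSpace.map PUnit.{u + 1} V.ι
    let k' := AffineSpace.map PUnit.{u + 1} k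
    haveI : IsOpenImmersion j :=
      MorphismProperty.of_isPullback (P := @IsOpenImmersion) (isPullback_map' V.ι).flip inferInstance
    haveI : IsClosedImmersion k' :=
      MorphismProperty.of_isPullback (P := @IsClosedImmersion) (isPullback_map' k).flip inferInstance
    have hcompl : Set.range V.ι = (Set.range k)ᶜ := by rw [hk, compl_compl, Scheme.Opens.range_ι]
    have hcompl' : Set.range j = (Set.range k')ᶜ := by
      rw [range_map, range_map, hcompl, Set.preimage_compl]
    intro y
    obtain ⟨a, ha⟩ := surjective_A1_affine (T := V.toScheme) (pbF j y)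
    obtain ⟨b, rfl⟩ := surjective_pbF_open k V.ι hcompl a
    have h0 : pbF j (y - pbF (𝔸(PUnit.{u + 1}; Z) ↘ Z) b) = 0 := by
      rw [map_sub, ← ha, ← pbF_comp, ← pbF_comp, pbF_congr (isPullback_map' V.ι).w, sub_self]
    obtain ⟨w, hw⟩ := exists_pushC_eq k' j hcompl' h0
    obtain ⟨v, rfl⟩ := hW w
    refine ⟨b + pushC k v, ?_⟩
    rw [map_add, pbF_pushC (isPullback_map' k), hw, add_sub_cancel]

end Groth.Agent.K0Hom
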