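import Groth.Agent.K0Hom.GenMaps
import Groth.Agent.K0Hom.Surj
import Groth.Agent.DvrDom.ClosedProper
import Groth.Agent.Devissage.Serre

/-!
Classes generating every fibre generate the Grothendieck group of coherent modules.
-/

set_option autoImplicit false
set_option linter.style.haveILetI false
set_option linter.unusedSectionVars false
set_option backward.isDefEq.respectTransparency false
set_option backward.isDefEq.respectTransparency.types false

universe u

open CategoryTheory CategoryTheory.Limits AlgebraicGeometry TopologicalSpace Opposite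

noncomputable section

attribute [local instance] Abelian.hasFiniteBiproducts

namespace Groth.Agent.K0Hom

theorem isNoetherian_of_immersion {T X : Scheme.{u}} [IsNoetherian X] (f : T ⟶ X) [IsImmersion f] :
    IsNoetherian T := by
  haveI : IsLocallyNoetherian T := LocallyOfFiniteType.isLocallyNoetherian f
  haveI : CompactSpace T :=
    isCompact_univ_iff.1 (f.isEmbedding.isInducing.isCompact_iff.2 (NoetherianSpace.isCompact _))
  exact {}

variable {X S : Scheme.{u}} (f : X ⟶ S) {m : ℕ} (E : Fin m → X.Modules)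

/-- Every fibre is generated. -/
def FibGen : Prop :=
  ∀ s : S, AddSubgroup.closure (Set.range (fun i : Fin m => KZero.clSub
    (fun M : (f.fiber s).Modules => Coh.IsCoh M) ((Scheme.Modules.pullback (f.fiberι s)).obj (E i)))) = ⊤

/-- The family over a base scheme. -/
abbrev Eb {T : Scheme.{u}} (g : T ⟶ S) (i : Fin m) : (pullback f g).Modules :=
  (Scheme.Modules.pullback (pullback.fst f g)).obj (E i)

variable {f E} (hE : ∀ i, FlatMod.IsFinLocFree (E i))

include hE in
theorem isFLF_Eb {T : Scheme.{u}} (g : T ⟶ S) (i : Fin m) : FlatMod.IsFinLocFree (Eb f E g i) :=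
  DerPerf.isFinLocFree_pullback _ (hE i)

/-- The base change of the family along a map of bases. -/
def EbIso {T T' : Scheme.{u}} {g : T ⟶ S} {g' : T' ⟶ S} (b : pullback f g' ⟶ pullback f g)
    (hb : b ≫ pullback.fst f g = pullback.fst f g') (i : Fin m) :
    (Scheme.Modules.pullback b).obj (Eb f E g i) ≅ Eb f E g' i :=
  (Scheme.Modules.pullbackComp b (pullback.fst f g)).app (E i) ≪≫ (Scheme.Modules.pullbackCongr hb).app (E i)

variable (f) in
/-- The map of pullbacks along a map of bases. -/
def bmap {T T' : Scheme.{u}} (a : T' ⟶ T) (g : T ⟶ S) : pullback f (a ≫ g) ⟶ pullback f g :=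
  pullback.lift (pullback.fst f (a ≫ g)) (pullback.snd f (a ≫ g) ≫ a)
    (by rw [Category.assoc]; exact pullback.condition)

theorem isPullback_bmap {T T' : Scheme.{u}} (a : T' ⟶ T) (g : T ⟶ S) :
    IsPullback (bmap f a g) (pullback.snd f (a ≫ g)) (pullback.snd f g) a := by
  refine IsPullback.of_right ?_ (pullback.lift_snd _ _ _) (IsPullback.of_hasPullback f g)
  rw [bmap, pullback.lift_fst]
  exact IsPullback.of_hasPullback f (a ≫ g)

variable [IsNoetherian X] [IsNoetherian S] [Flat f]

variable (hfib : FibGen f E)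

/-- A flat preimmersion over the generic point. -/
theorem exists_fibre_map {V : Scheme.{u}} [IsIntegral V] [IsAffine V] (g : V ⟶ S) [IsPreimmersion g] :
    ∃ (j : f.fiber (g (genericPoint V)) ⟶ pullback f g), Flat j ∧ IsPreimmersion j ∧ QuasiCompact j ∧
      QuasiSeparated j ∧ j ≫ pullback.fst f g = f.fiberι (g (genericPoint V)) ∧
      Set.range j = (pullback.snd f g) ⁻¹' {genericPoint V} := by
  let z := genericPoint V
  haveI : IsIso (g.residueFieldMap z) := by
    rw [ConcreteCategory.isIso_iff_bijective]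
    refine ⟨(g.residueFieldMap z).hom.injective, fun y => ?_⟩
    obtain ⟨y, rfl⟩ := IsLocalRing.residue_surjective y
    obtain ⟨a, rfl⟩ := g.stalkMap_surjective z y
    exact ⟨IsLocalRing.residue _ a, rfl⟩
  let t : Spec (S.residueField (g z)) ⟶ V := Spec.map (inv (g.residueFieldMap z)) ≫ V.fromSpecResidueField z
  have ht : t ≫ g = S.fromSpecResidueField (g z) := by
    rw [Category.assoc, ← Scheme.Hom.SpecMap_residueFieldMap_fromSpecResidueField, ← Category.assoc,
      ← Spec.map_comp, IsIso.hom_inv_id, Spec.map_id, Category.id_comp]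
  have htr : ∀ y, t y = z := fun y => by
    have : (V.fromSpecResidueField z) ((Spec.map (inv (g.residueFieldMap z))) y) ∈
        Set.range (V.fromSpecResidueField z) := ⟨_, rfl⟩
    rw [Scheme.range_fromSpecResidueField] at this
    exact this
  haveI : Flat t := by
    rw [Flat.iff_flat_stalkMap]
    intro y
    have hF : IsField (V.presheaf.stalk (t y)) := by
      rw [htr y]
      exact Field.toIsField V.functionField
    letI := hF.toField
    letI := (t.stalkMap y).hom.toAlgebra
    exact inferInstanceAs (Module.Flat (V.presheaf.stalk (t y)) ((Spec (S.residueField (g z))).presheaf.stalk y))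
  haveI : IsPreimmersion t := inferInstanceAs (IsPreimmersion (_ ≫ _))
  haveI : IsAffineHom t := inferInstance
  let j : f.fiber (g z) ⟶ pullback f g := pullback.lift (f.fiberι (g z)) (f.fiberToSpecResidueField (g z) ≫ t)
    (by rw [Category.assoc, ht]; exact (IsPullback.of_hasPullback f (S.fromSpecResidueField (g z))).w)
  have hj : IsPullback j (f.fiberToSpecResidueField (g z)) (pullback.snd f g) t := by
    refine IsPullback.of_right ?_ (pullback.lift_snd _ _ _) (IsPullback.of_hasPullback f g)
    rw [pullback.lift_fst, ht]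
    exact IsPullback.of_hasPullback f (S.fromSpecResidueField (g z))
  refine ⟨j, MorphismProperty.of_isPullback (P := @Flat) hj.flip inferInstance,
    MorphismProperty.of_isPullback (P := @IsPreimmersion) hj.flip inferInstance,
    MorphismProperty.of_isPullback (P := @QuasiCompact) hj.flip inferInstance,
    MorphismProperty.of_isPullback (P := @QuasiSeparated) hj.flip inferInstance, pullback.lift_fst _ _ _, ?_⟩
  ext y
  refine ⟨fun ⟨w, hw⟩ => ?_, fun hy => ?_⟩
  · rw [Set.mem_preimage, ← hw]
    exact (congr($(hj.w).base w)).trans (htr _)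
  · obtain ⟨w, hw, -⟩ := Scheme.exists_preimage_of_isPullback hj y
      (IsLocalRing.closedPoint (S.residueField (g z))) (hy.trans (htr _).symm)
    exact ⟨w, hw⟩

/-- A module vanishing on the fibre over the generic point vanishes over a neighbourhood. -/
theorem exists_open_vanish {V P : Scheme.{u}} [IsIntegral V] [IsNoetherian P] (π : P ⟶ V) {W : Scheme.{u}} (j : W ⟶ P)
    (hr : Set.range j = π ⁻¹' {genericPoint V}) {F : P.Modules} (hF : Coh.IsCoh F)
    (h : IsZero ((Scheme.Modules.pullback j).obj F)) :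
    ∃ O : V.Opens, genericPoint V ∈ O ∧ ∀ (Q : Scheme.{u}) (b : Q ⟶ P), Set.range b ⊆ π ⁻¹' O →
      IsZero ((Scheme.Modules.pullback b).obj F) := by
  haveI : Coh.IsQCoh F := hF.1
  let T := CohB1.support F
  have hT : IsClosed T := Devissage.isClosed_support' hF
  have hdis : ∀ y ∈ T, π y ≠ genericPoint V := fun y hy he => by
    have hy' : y ∈ Set.range j := by rw [hr]; exact he
    obtain ⟨w, hw⟩ := hy'
    have h1 : w ∈ CohB1.support ((Scheme.Modules.pullback j).obj F) := by
      rw [SupportLib.support_pullback j F hF.2]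
      show j w ∈ T
      rw [hw]; exact hy
    exact K0Coh.support_of_isZero h ∅ h1
  obtain ⟨C, hCf, hCc, hCi, hTC⟩ := NoetherianSpace.exists_finite_set_isClosed_irreducible hT
  let G : Set V := ⋃ c ∈ C, closure (π '' c)
  have hG : IsClosed G := hCf.isClosed_biUnion fun c _ => isClosed_closure
  have hz : genericPoint V ∉ G := fun hz => by
    obtain ⟨c, hc, hzc⟩ := Set.mem_iUnion₂.1 hz
    obtain ⟨x, hx⟩ := QuasiSober.sober (hCi c hc) (hCc c hc)
    have hxc : x ∈ c := hx.def ▸ subset_closure rfl
    have h2 : closure (π '' c) ⊆ closure {π x} := by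
      rw [← hx.def]
      refine closure_minimal ?_ isClosed_closure
      refine (image_closure_subset_closure_image π.continuous).trans ?_
      rw [Set.image_singleton]
    have h3 : π x ⤳ genericPoint V := specializes_iff_mem_closure.2 (h2 hzc)
    have h4 : genericPoint V ⤳ π x := genericPoint_specializes _
    exact hdis x (hTC ▸ Set.mem_sUnion.2 ⟨c, hc, hxc⟩) (h3.antisymm h4).eq
  refine ⟨⟨Gᶜ, hG.isOpen_compl⟩, hz, fun Q b hb => ?_⟩
  refine (K0Dev.isZero_iff_stalks _).2 fun q => (ClSubLib.notMem_support_iff_isZero _ q).1 fun hq => ?_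
  rw [SupportLib.support_pullback b F hF.2] at hq
  have hq' : b q ∈ T := hq
  rw [hTC] at hq'
  obtain ⟨c, hc, hqc⟩ := Set.mem_sUnion.1 hq'
  exact hb ⟨q, rfl⟩ (Set.mem_iUnion₂.2 ⟨c, hc, subset_closure ⟨b q, hqc, rfl⟩⟩)

/-- The kernel of restriction to the generic fibre vanishes near the generic fibre. -/
theorem exists_open_vanN {V P : Scheme.{u}} [IsIntegral V] [IsNoetherian P] (π : P ⟶ V) {W : Scheme.{u}} (j : W ⟶ P)
    (hr : Set.range j = π ⁻¹' {genericPoint V}) {y : SGA6.Kcoh P} (hy : y ∈ vanN j) :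
    ∃ O : V.Opens, genericPoint V ∈ O ∧ ∀ (Q : Scheme.{u}) (b : Q ⟶ P) (_ : Flat b) (_ : IsNoetherian Q),
      Set.range b ⊆ π ⁻¹' O → pbF b y = 0 := by
  induction hy using AddSubgroup.closure_induction with
  | mem y hy =>
    obtain ⟨F, hF, h, rfl⟩ := hy
    obtain ⟨O, hO, h1⟩ := exists_open_vanish π j hr hF h
    exact ⟨O, hO, fun Q b _ _ hb => by rw [pbF_cl b hF]; exact K0Dev.cl_zero (h1 Q b hb)⟩
  | zero => exact ⟨⊤, trivial, fun Q b _ _ _ => map_zero _⟩
  | add a c _ _ ha hc =>
    obtain ⟨O₁, hO₁, h₁⟩ := ha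
    obtain ⟨O₂, hO₂, h₂⟩ := hc
    exact ⟨O₁ ⊓ O₂, ⟨hO₁, hO₂⟩, fun Q b i₁ i₂ hb => by
      rw [map_add, h₁ Q b i₁ i₂ fun x hx => (hb hx).1, h₂ Q b i₁ i₂ fun x hx => (hb hx).2, add_zero]⟩
  | neg a _ ha =>
    obtain ⟨O, hO, h1⟩ := ha
    exact ⟨O, hO, fun Q b i₁ i₂ hb => by rw [map_neg, h1 Q b i₁ i₂ hb, neg_zero]⟩

include hfib hE in
/-- Near the generic point of an integral affine piece of the base everything comes from the family. -/
theorem exists_open_mem_range {V : Scheme.{u}} [IsIntegral V] [IsAffine V] [IsNoetherian V] (g : V ⟶ S)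
    [IsImmersion g] [IsNoetherian (pullback f g)] (y : SGA6.Kcoh (pullback f g)) :
    ∃ (O : V.Opens) (_ : genericPoint V ∈ O) (x : Fin m → SGA6.Kcoh V),
      ∀ (Q : Scheme.{u}) (b : Q ⟶ pullback f g) (_ : Flat b) (_ : IsNoetherian Q),
        Set.range b ⊆ (pullback.snd f g) ⁻¹' O →
          pbF b y = pbF b (sumGen (pullback.snd f g) (Eb f E g) (isFLF_Eb hE g) x) := by
  obtain ⟨j, _, _, _, _, hj, hr⟩ := exists_fibre_map (f := f) g
  obtain ⟨ψ, hψ⟩ := exists_hom_quot j
  let φ := sumGen (pullback.snd f g) (Eb f E g) (isFLF_Eb hE g)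
  let q := QuotientAddGroup.mk' (vanN j)
  let K : AddSubgroup (SGA6.Kcoh (pullback f g) ⧸ vanN j) := (q.comp φ).range
  have hmem : ∀ w, ψ w ∈ K := fun w => by
    have hw : w ∈ AddSubgroup.closure _ := (hfib (g (genericPoint V))).symm ▸ AddSubgroup.mem_top w
    induction hw using AddSubgroup.closure_induction with
    | mem w hw =>
      obtain ⟨i, rfl⟩ := hw
      have hEi : Coh.IsCoh (Eb f E g i) := K0Coh.isCoh_of_isFinLocFree (isFLF_Eb hE g i)
      have hNi : Coh.IsCoh ((Scheme.Modules.pullback (f.fiberι (g (genericPoint V)))).obj (E i)) :=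
        QC.isCoh_pullback _ (K0Coh.isCoh_of_isFinLocFree (hE i))
      show ψ (clM ((Scheme.Modules.pullback (f.fiberι (g (genericPoint V)))).obj (E i))) ∈ K
      rw [hψ _ _ hEi hNi
        ((Scheme.Modules.pullbackComp j (pullback.fst f g)).app (E i) ≪≫
          (Scheme.Modules.pullbackCongr hj).app (E i))]
      refine ⟨fun k => if k = i then clM (Coh.structureModule V) else 0, ?_⟩
      rw [AddMonoidHom.comp_apply]
      congr 1
      rw [sumGen_apply, Finset.sum_eq_single i (fun k _ hk => by rw [if_neg hk, map_zero])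
        (fun h => absurd (Finset.mem_univ i) h), if_pos rfl, genE_unit]
    | zero => rw [map_zero]; exact zero_mem _
    | add a b _ _ ha hb => rw [map_add]; exact add_mem ha hb
    | neg a _ ha => rw [map_neg]; exact neg_mem ha
  have hy : q y ∈ K := by
    refine PnReg.sub_induction (P := fun M : (pullback f g).Modules => Coh.IsCoh M) (Q := fun y => q y ∈ K)
      (by rw [map_zero]; exact zero_mem _) (fun a ha => by rw [map_neg]; exact neg_mem ha)
      (fun a b ha hb => by rw [map_add]; exact add_mem ha hb) (fun F hF => ?_) y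
    have e := hψ F _ hF (QC.isCoh_pullback j hF) (Iso.refl _)
    rw [show q (KZero.clSub _ F) = ψ (clM ((Scheme.Modules.pullback j).obj F)) from e.symm]
    exact hmem _
  obtain ⟨x, hx⟩ := hy
  have hN : y - φ x ∈ vanN j :=
    (QuotientAddGroup.eq_zero_iff _).1 ((map_sub q y (φ x)).trans (sub_eq_zero.2 hx.symm))
  obtain ⟨O, hO, h1⟩ := exists_open_vanN (pullback.snd f g) j hr hN
  exact ⟨O, hO, x, fun Q b i₁ i₂ hb => sub_eq_zero.1 ((map_sub (pbF b) y (φ x)).symm.trans (h1 Q b i₁ i₂ hb))⟩

theorem exists_integral_open (T : Scheme.{u}) [IsNoetherian T] [IsReduced T] [Nonempty T] :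
    ∃ U : T.Opens, IsAffineOpen U ∧ IsIntegral U.toScheme := by
  obtain ⟨c⟩ := (inferInstance : Nonempty T)
  obtain ⟨Z, hZ, -⟩ : ∃ Z ∈ irreducibleComponents T, c ∈ Z :=
    ⟨irreducibleComponent c, irreducibleComponent_mem_irreducibleComponents c, mem_irreducibleComponent⟩
  obtain ⟨o, ho, ⟨x, hx⟩, hoz⟩ := NoetherianSpace.exists_isOpen_nonempty_subset_irreducibleComponent Z hZ
  obtain ⟨U, hU, hxU, hUo⟩ := exists_isAffineOpen_mem_and_subset (x := x) (U := (⟨o, ho⟩ : T.Opens)) hx
  refine ⟨U, hU, ?_⟩
  haveI : Nonempty U.toScheme := ⟨⟨x, hxU⟩⟩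
  haveI : PreirreducibleSpace U.toScheme := by
    have h1 : IsPreirreducible (U : Set T) := fun a b ha hb ⟨p, hpU, hpa⟩ ⟨q, hqU, hqb⟩ => by
      obtain ⟨w, -, ⟨hwU, hwa⟩, hwU', hwb⟩ := hZ.1.2 (U ⊓ ⟨a, ha⟩ : T.Opens).1 (U ⊓ ⟨b, hb⟩ : T.Opens).1
        (U ⊓ ⟨a, ha⟩ : T.Opens).2 (U ⊓ ⟨b, hb⟩ : T.Opens).2 ⟨p, hoz (hUo hpU), hpU, hpa⟩ ⟨q, hoz (hUo hqU), hqU, hqb⟩
      exact ⟨w, hwU, hwa, hwb⟩
    exact Subtype.preirreducibleSpace h1
  haveI : IrreducibleSpace U.toScheme := ⟨inferInstance⟩
  exact isIntegral_of_irreducibleSpace_of_isReduced _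

variable (f) in
theorem isNoetherian_pullback_snd {T : Scheme.{u}} [IsNoetherian T] (g : T ⟶ S) [IsImmersion g] :
    IsNoetherian (pullback f g) := by
  haveI : IsImmersion (pullback.fst f g) :=
    MorphismProperty.of_isPullback (P := @IsImmersion) (IsPullback.of_hasPullback f g).flip inferInstance
  exact isNoetherian_of_immersion (pullback.fst f g)

include hfib hE in
/-- The family generates. -/
theorem surjective_sumGen : Function.Surjective (sumGen f E hE) := by
  suffices hmain : ∀ (C : Closeds S) (T : Scheme.{u}) (_ : IsNoetherian T) (g : T ⟶ S) (_ : IsClosedImmersion g)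
      (_ : IsNoetherian (pullback f g)), Set.range g ⊆ C →
      Function.Surjective (sumGen (pullback.snd f g) (Eb f E g) (isFLF_Eb hE g)) by
    haveI := isNoetherian_pullback_snd f (𝟙 S)
    intro y
    obtain ⟨x, hx⟩ := hmain ⊤ S ‹_› (𝟙 S) inferInstance inferInstance (Set.subset_univ _) (pbF (pullback.fst f (𝟙 S)) y)
    refine ⟨x, (bijective_pbF_iso (asIso (pullback.fst f (𝟙 S)))).1 ?_⟩
    show pbF (pullback.fst f (𝟙 S)) (sumGen f E hE x) = pbF (pullback.fst f (𝟙 S)) y
    rw [pbF_sumGen (𝟙 S) (pullback.fst f (𝟙 S)) pullback.condition hE (isFLF_Eb hE (𝟙 S)) (fun i => Iso.refl _) x, ← hx]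
    exact congrArg _ (funext fun i => pbF_id (x i))
  intro C
  induction C using WellFoundedLT.induction with
  | ind C ih =>
  -- the reduced case
  have hred : ∀ (T : Scheme.{u}) (_ : IsNoetherian T) (_ : IsReduced T) (g : T ⟶ S) (_ : IsClosedImmersion g)
      (_ : IsNoetherian (pullback f g)), Set.range g ⊆ C →
      Function.Surjective (sumGen (pullback.snd f g) (Eb f E g) (isFLF_Eb hE g)) := by
    intro T _ _ g _ _ hg y
    by_cases hne : IsEmpty ↥T
    · haveI : IsEmpty ↥(pullback f g) := Function.isEmpty (pullback.snd f g).base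
      haveI := PBReg.subsingleton_kcoh (pullback f g)
      exact ⟨0, Subsingleton.elim _ _⟩
    haveI : Nonempty T := not_isEmpty_iff.1 hne
    obtain ⟨V, hV, _⟩ := exists_integral_open T
    haveI : IsAffine V.toScheme := hV
    haveI : IsNoetherian V.toScheme := LocImmFT.isNoetherian_opens V
    haveI : IsImmersion (V.ι ≫ g) := inferInstance
    haveI := isNoetherian_pullback_snd f (V.ι ≫ g)
    haveI : IsOpenImmersion (bmap f V.ι g) :=
      MorphismProperty.of_isPullback (P := @IsOpenImmersion) (isPullback_bmap V.ι g).flip inferInstance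
    obtain ⟨O, hO, x₀, h0⟩ := exists_open_mem_range hE hfib (V.ι ≫ g) (pbF (bmap f V.ι g) y)
    haveI : IsNoetherian O.toScheme := LocImmFT.isNoetherian_opens O
    let u : O.toScheme ⟶ T := O.ι ≫ V.ι
    haveI : IsImmersion (u ≫ g) := inferInstance
    haveI := isNoetherian_pullback_snd f (u ≫ g)
    haveI : IsOpenImmersion (bmap f u g) :=
      MorphismProperty.of_isPullback (P := @IsOpenImmersion) (isPullback_bmap u g).flip inferInstance
    -- the closed complement
    let D : Closeds T := ⟨(Set.range u)ᶜ, u.isOpenEmbedding.isOpen_range.isClosed_compl⟩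
    let I := Scheme.IdealSheafData.vanishingIdeal D
    let k : I.subscheme ⟶ T := I.subschemeι
    have hk : Set.range k = (Set.range u)ᶜ := by
      show Set.range I.subschemeι = _
      rw [Scheme.IdealSheafData.range_subschemeι]
      exact Scheme.IdealSheafData.coe_support_vanishingIdeal D
    haveI : IsNoetherian I.subscheme := isNoetherian_of_immersion k
    haveI := isNoetherian_pullback_snd f (k ≫ g)
    haveI : IsClosedImmersion (bmap f k g) :=
      MorphismProperty.of_isPullback (P := @IsClosedImmersion) (isPullback_bmap k g).flip inferInstance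
    let C' : Closeds S := ⟨Set.range (k ≫ g), (k ≫ g).isClosedEmbedding.isClosed_range⟩
    have hlt : C' < C := by
      refine lt_of_le_of_ne (fun y hy => ?_) fun he => ?_
      · obtain ⟨w, rfl⟩ := hy
        exact hg ⟨k w, rfl⟩
      · have hmem : g (u ⟨genericPoint V.toScheme, hO⟩) ∈ (C' : Set S) := he ▸ hg ⟨_, rfl⟩
        obtain ⟨w, hw⟩ := hmem
        have h2 : k w ∈ Set.range k := ⟨w, rfl⟩
        have h3 : k w = u ⟨genericPoint V.toScheme, hO⟩ := g.isClosedEmbedding.injective hw
        rw [h3, hk] at h2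
        exact h2 ⟨_, rfl⟩
    have hW := ih C' hlt I.subscheme inferInstance (k ≫ g) inferInstance inferInstance subset_rfl
    have hcompl : Set.range (bmap f u g) = (Set.range (bmap f k g))ᶜ := by
      have hr : ∀ {T' : Scheme.{u}} (a : T' ⟶ T), Set.range (bmap f a g) = (pullback.snd f g) ⁻¹' Set.range a := by
        intro T' a
        ext w
        refine ⟨fun ⟨z, hz⟩ => ⟨(pullback.snd f (a ≫ g)) z, ?_⟩, fun ⟨v, hv⟩ => ?_⟩
        · rw [← hz]
          exact (congr($((isPullback_bmap a g).w).base z)).symm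
        · obtain ⟨z, hz, -⟩ := Scheme.exists_preimage_of_isPullback (isPullback_bmap a g) w v hv.symm
          exact ⟨z, hz⟩
      rw [hr, hr, hk, Set.preimage_compl, compl_compl]
    -- the generators on the open piece
    let a : Fin m → SGA6.Kcoh O.toScheme := fun i => pbF O.ι (x₀ i)
    have hu : Set.range u = (Set.range k)ᶜ := by rw [hk, compl_compl]
    choose b hb using fun i => surjective_pbF_open k u hu (a i)
    let φ := sumGen (pullback.snd f g) (Eb f E g) (isFLF_Eb hE g)
    have hzero : pbF (bmap f u g) (y - φ b) = 0 := by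
      have hcomp : (O.ι ≫ V.ι) ≫ g = O.ι ≫ V.ι ≫ g := Category.assoc _ _ _
      let c : pullback f (u ≫ g) ⟶ pullback f (V.ι ≫ g) :=
        pullback.lift (pullback.fst f (u ≫ g)) (pullback.snd f (u ≫ g) ≫ O.ι)
          (by rw [Category.assoc, ← hcomp]; exact pullback.condition)
      have hc : IsPullback c (pullback.snd f (u ≫ g)) (pullback.snd f (V.ι ≫ g)) O.ι := by
        refine IsPullback.of_right ?_ (pullback.lift_snd _ _ _) (IsPullback.of_hasPullback f (V.ι ≫ g))
        rw [pullback.lift_fst, ← hcomp]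
        exact IsPullback.of_hasPullback f (u ≫ g)
      haveI : IsOpenImmersion c := MorphismProperty.of_isPullback (P := @IsOpenImmersion) hc.flip inferInstance
      have hcb : c ≫ bmap f V.ι g = bmap f u g := by
        apply pullback.hom_ext <;> simp [c, bmap, u]
      have hrange : Set.range c ⊆ (pullback.snd f (V.ι ≫ g)) ⁻¹' O := by
        rintro _ ⟨w, rfl⟩
        show (pullback.snd f (V.ι ≫ g)) (c w) ∈ (O : Set V.toScheme)
        rw [show (pullback.snd f (V.ι ≫ g)) (c w) = O.ι ((pullback.snd f (u ≫ g)) w) from congr($(hc.w).base w)]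
        exact ((pullback.snd f (u ≫ g)) w).2
      have e1 := h0 _ c inferInstance inferInstance hrange
      rw [← pbF_comp, pbF_congr hcb] at e1
      rw [map_sub, e1, sub_eq_zero,
        pbF_sumGen O.ι c hc.w (isFLF_Eb hE _) (isFLF_Eb hE _) (fun i => EbIso c (pullback.lift_fst _ _ _) i),
        pbF_sumGen u (bmap f u g) (isPullback_bmap u g).w (isFLF_Eb hE g) (isFLF_Eb hE _)
          (fun i => EbIso (bmap f u g) (pullback.lift_fst _ _ _) i)]
      exact congrArg _ (funext fun i => (hb i).symm)
    obtain ⟨w, hw⟩ := exists_pushC_eq (bmap f k g) (bmap f u g) hcompl hzero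
    obtain ⟨v, rfl⟩ := hW w
    refine ⟨b + fun i => pushC k (v i), ?_⟩
    rw [map_add, ← pushC_sumGen (isPullback_bmap k g) (isFLF_Eb hE g) (isFLF_Eb hE (k ≫ g))
      (fun i => EbIso (bmap f k g) (pullback.lift_fst _ _ _) i) v, hw]
    exact add_sub_cancel _ _
  intro T _ g _ _ hg y
  let I := Scheme.IdealSheafData.vanishingIdeal (⊤ : Closeds T)
  let k : I.subscheme ⟶ T := I.subschemeι
  have hk : Set.range k = Set.univ := by
    show Set.range I.subschemeι = _
    rw [Scheme.IdealSheafData.range_subschemeι]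
    exact Scheme.IdealSheafData.coe_support_vanishingIdeal ⊤
  haveI : IsNoetherian I.subscheme := isNoetherian_of_immersion k
  haveI := isNoetherian_pullback_snd f (k ≫ g)
  haveI : IsClosedImmersion (bmap f k g) :=
    MorphismProperty.of_isPullback (P := @IsClosedImmersion) (isPullback_bmap k g).flip inferInstance
  haveI : IsReduced I.subscheme := DvrDom.isReduced_vanishingIdeal_subscheme _
  have hW := hred I.subscheme inferInstance inferInstance (k ≫ g) inferInstance inferInstance (fun s hs => by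
    obtain ⟨w, rfl⟩ := hs
    exact hg ⟨k w, rfl⟩)
  haveI : IsNoetherian (⊥ : (pullback f g).Opens).toScheme := LocImmFT.isNoetherian_opens _
  haveI : IsEmpty ↥((⊥ : (pullback f g).Opens).toScheme) := ⟨fun z => z.2⟩
  haveI := PBReg.subsingleton_kcoh (⊥ : (pullback f g).Opens).toScheme
  obtain ⟨w, hw⟩ := exists_pushC_eq (bmap f k g) (⊥ : (pullback f g).Opens).ι (by
    rw [Scheme.Opens.range_ι]
    refine (Set.compl_univ.symm.trans (congrArg compl ?_)).trans rfl
    refine (Set.eq_univ_of_forall fun x => ?_).symm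
    have hv : (pullback.snd f g) x ∈ Set.range k := by rw [hk]; trivial
    obtain ⟨v, hv⟩ := hv
    obtain ⟨z, hz, -⟩ := Scheme.exists_preimage_of_isPullback (isPullback_bmap k g) x v hv.symm
    exact ⟨z, hz⟩) (x := y) (Subsingleton.elim _ _)
  obtain ⟨v, rfl⟩ := hW w
  exact ⟨fun i => pushC k (v i), (pushC_sumGen (isPullback_bmap k g) (isFLF_Eb hE g) (isFLF_Eb hE (k ≫ g))
    (fun i => EbIso (bmap f k g) (pullback.lift_fst _ _ _) i) v).symm.trans hw⟩

end Groth.Agent.K0Hom
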