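import Groth.Agent.K0Dev.Abstract
import Mathlib.Algebra.Homology.ShortComplex.SnakeLemma

/-!
For a morphism of short exact sequences the difference of the classes of cokernel and kernel is additive.
-/

set_option autoImplicit false
set_option linter.style.haveILetI false
set_option linter.unusedSectionVars false

universe v u w

open CategoryTheory CategoryTheory.Limits

noncomputable section

attribute [local instance] Abelian.hasFiniteBiproducts

namespace Groth.Agent.K0Hom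

variable {A : Type u} [Category.{v} A] [Abelian A] {P : ObjectProperty A} {G : Type w} [AddCommGroup G] {q : A → G}

/-- What is needed of a class function. -/
structure ClassFun (P : ObjectProperty A) (q : A → G) : Prop where
  image : ∀ {X Y : A} (f : X ⟶ Y), P X → P Y → P (Abelian.image f)
  iso : ∀ {X Y : A}, (X ≅ Y) → P X → P Y
  q_iso : ∀ {X Y : A}, (X ≅ Y) → P X → q X = q Y
  add : ∀ {S : ShortComplex A}, S.ShortExact → P S.X₁ → P S.X₂ → P S.X₃ → q S.X₂ = q S.X₁ + q S.X₃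

theorem ClassFun.exact (h : ClassFun P q) {S : ShortComplex A} (hS : S.Exact) (h₁ : P S.X₁) (h₂ : P S.X₂)
    (h₃ : P S.X₃) : q S.X₂ = q (Abelian.image S.f) + q (Abelian.image S.g) := by
  have w1 : Abelian.image.ι S.f ≫ S.g = 0 := (cancel_epi (Abelian.factorThruImage S.f)).1
    (by rw [← Category.assoc, Abelian.image.fac, S.zero, comp_zero])
  have w2 : Abelian.image.ι S.f ≫ Abelian.factorThruImage S.g = 0 := (cancel_mono (Abelian.image.ι S.g)).1
    (by rw [Category.assoc, Abelian.image.fac, w1, zero_comp])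
  let φ : S ⟶ ShortComplex.mk (Abelian.image.ι S.f) S.g w1 :=
    { τ₁ := Abelian.factorThruImage S.f, τ₂ := 𝟙 _, τ₃ := 𝟙 _,
      comm₁₂ := by simp [Abelian.image.fac], comm₂₃ := by simp }
  let ψ : ShortComplex.mk (Abelian.image.ι S.f) (Abelian.factorThruImage S.g) w2 ⟶
      ShortComplex.mk (Abelian.image.ι S.f) S.g w1 :=
    { τ₁ := 𝟙 _, τ₂ := 𝟙 _, τ₃ := Abelian.image.ι S.g,
      comm₁₂ := by simp, comm₂₃ := by simp [Abelian.image.fac] }
  haveI : Epi φ.τ₁ := inferInstanceAs (Epi (Abelian.factorThruImage S.f))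
  haveI : IsIso φ.τ₂ := inferInstanceAs (IsIso (𝟙 _))
  haveI : Mono φ.τ₃ := inferInstanceAs (Mono (𝟙 _))
  haveI : Epi ψ.τ₁ := inferInstanceAs (Epi (𝟙 _))
  haveI : IsIso ψ.τ₂ := inferInstanceAs (IsIso (𝟙 _))
  haveI : Mono ψ.τ₃ := inferInstanceAs (Mono (Abelian.image.ι S.g))
  have hT : (ShortComplex.mk (Abelian.image.ι S.f) (Abelian.factorThruImage S.g) w2).ShortExact :=
    { exact := (ShortComplex.exact_iff_of_epi_of_isIso_of_mono ψ).2
        ((ShortComplex.exact_iff_of_epi_of_isIso_of_mono φ).1 hS) }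
  exact h.add hT (h.image S.f h₁ h₂) h₂ (h.image S.g h₂ h₃)

theorem ClassFun.sub_add (h : ClassFun P q) {S T : ShortComplex A} (hS : S.ShortExact) (hT : T.ShortExact)
    (v : S ⟶ T) (k₁ : P (kernel v.τ₁)) (k₂ : P (kernel v.τ₂)) (k₃ : P (kernel v.τ₃))
    (c₁ : P (cokernel v.τ₁)) (c₂ : P (cokernel v.τ₂)) (c₃ : P (cokernel v.τ₃)) :
    q (cokernel v.τ₂) - q (kernel v.τ₂) =
      (q (cokernel v.τ₁) - q (kernel v.τ₁)) + (q (cokernel v.τ₃) - q (kernel v.τ₃)) := by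
  let I : ShortComplex.SnakeInput A :=
    { L₀ := kernel v, L₁ := S, L₂ := T, L₃ := cokernel v
      v₀₁ := kernel.ι v, v₁₂ := v, v₂₃ := cokernel.π v
      w₀₂ := kernel.condition v, w₁₃ := cokernel.condition v
      h₀ := kernelIsKernel v, h₃ := cokernelIsCokernel v
      L₁_exact := hS.exact, epi_L₁_g := hS.epi_g, L₂_exact := hT.exact, mono_L₂_f := hT.mono_f }
  haveI : Mono I.L₁.f := hS.mono_f
  haveI : Epi I.L₂.g := hT.epi_g
  let a₁ : I.L₀.X₁ ≅ kernel v.τ₁ := I.h₀τ₁.conePointUniqueUpToIso (limit.isLimit _)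
  let a₂ : I.L₀.X₂ ≅ kernel v.τ₂ := I.h₀τ₂.conePointUniqueUpToIso (limit.isLimit _)
  let a₃ : I.L₀.X₃ ≅ kernel v.τ₃ := I.h₀τ₃.conePointUniqueUpToIso (limit.isLimit _)
  let b₁ : I.L₃.X₁ ≅ cokernel v.τ₁ := I.h₃τ₁.coconePointUniqueUpToIso (colimit.isColimit _)
  let b₂ : I.L₃.X₂ ≅ cokernel v.τ₂ := I.h₃τ₂.coconePointUniqueUpToIso (colimit.isColimit _)
  let b₃ : I.L₃.X₃ ≅ cokernel v.τ₃ := I.h₃τ₃.coconePointUniqueUpToIso (colimit.isColimit _)
  have p₁ := h.iso a₁.symm k₁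
  have p₂ := h.iso a₂.symm k₂
  have p₃ := h.iso a₃.symm k₃
  have q₁ := h.iso b₁.symm c₁
  have q₂ := h.iso b₂.symm c₂
  have q₃ := h.iso b₃.symm c₃
  have e₀ := h.exact I.L₀_exact p₁ p₂ p₃
  have e₁ : q I.L₀.X₃ = q (Abelian.image I.L₀.g) + q (Abelian.image I.δ) := h.exact I.L₁'_exact p₂ p₃ q₁
  have e₂ : q I.L₃.X₁ = q (Abelian.image I.δ) + q (Abelian.image I.L₃.f) := h.exact I.L₂'_exact p₃ q₁ q₂
  have e₃ := h.exact I.L₃_exact q₁ q₂ q₃
  haveI : Mono I.L₀.f := @ShortComplex.SnakeInput.mono_L₀_f _ _ _ I hS.mono_f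
  haveI : Epi I.L₃.g := @ShortComplex.SnakeInput.epi_L₃_g _ _ _ I hT.epi_g
  haveI : Mono (Abelian.factorThruImage I.L₀.f) := mono_of_mono_fac (Abelian.image.fac I.L₀.f)
  haveI : IsIso (Abelian.factorThruImage I.L₀.f) := isIso_of_mono_of_epi _
  haveI : Epi (Abelian.image.ι I.L₃.g) := epi_of_epi_fac (Abelian.image.fac I.L₃.g)
  haveI : IsIso (Abelian.image.ι I.L₃.g) := isIso_of_mono_of_epi _
  rw [← h.q_iso (asIso (Abelian.factorThruImage I.L₀.f)) p₁] at e₀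
  rw [h.q_iso (asIso (Abelian.image.ι I.L₃.g)) (h.image I.L₃.g q₂ q₃)] at e₃
  rw [← h.q_iso a₁ p₁, ← h.q_iso a₂ p₂, ← h.q_iso a₃ p₃, ← h.q_iso b₁ q₁, ← h.q_iso b₂ q₂, ← h.q_iso b₃ q₃,
    e₀, e₁, e₂, e₃]
  abel

end Groth.Agent.K0Hom
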