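import Groth.Agent.K0Hom.Torus
import Groth.Agent.K0Hom.Snake
import Groth.Agent.PnReg.KIso

/-!
Inverse image along the projection to the zero locus of a regular function is injective on classes.
-/

set_option autoImplicit false
set_option linter.style.haveILetI false
set_option linter.unusedSectionVars false
set_option backward.isDefEq.respectTransparency false
set_option backward.isDefEq.respectTransparency.types false

universe u

open CategoryTheory CategoryTheory.Limits AlgebraicGeometry TopologicalSpace Opposite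
open Groth.Agent.LBDesc (smulMor)

noncomputable section

attribute [local instance] Abelian.hasFiniteBiproducts

namespace Groth.Agent.K0Hom

variable {X Y : Scheme.{u}} [IsNoetherian X] [IsNoetherian Y] {p : Y ⟶ X} {s : X ⟶ Y} {t : Γ(Y, ⊤)}

/-- Inverse image on classes. -/
abbrev pbK (p : Y ⟶ X) [(Scheme.Modules.pullback p).Additive] [PreservesFiniteLimits (Scheme.Modules.pullback p)]
    [PreservesFiniteColimits (Scheme.Modules.pullback p)] : SGA6.Kcoh X →+ SGA6.Kcoh Y :=
  SGA6.mapSub (Scheme.Modules.pullback p) (fun M : X.Modules => Coh.IsCoh M) (fun M : Y.Modules => Coh.IsCoh M)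
    fun _ h => QC.isCoh_pullback p h

theorem supp_ker_coker (h : Sec p s t) {F : Y.Modules} (hF : Coh.IsCoh F) :
    haveI := h.closed
    K0Dev.Supp s (kernel (smulMor F t)) ∧ K0Dev.Supp s (cokernel (smulMor F t)) := by
  haveI := h.closed
  have hb : ∀ y ∉ Set.range s, IsIso ((DerSch.stalkFunctor Y y).map (smulMor F t)) := fun y hy => by
    rw [ConcreteCategory.isIso_iff_bijective]
    have := (h.unit_of y hy).smul_bijective (β := ((DerSch.stalkFunctor Y y).obj F : Type u))
    convert this using 1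
    funext m
    exact st_smulMor F t y m
  have hK := QC.isCoh_kernel hF hF.1 (smulMor F t)
  have hC := QC.isCoh_cokernel hF.1 hF (smulMor F t)
  refine ⟨(K0Dev.supp_iff s hK).2 fun y hy => ?_, (K0Dev.supp_iff s hC).2 fun y hy => ?_⟩
  · haveI := hb y hy
    refine IsZero.of_mono_eq_zero ((DerSch.stalkFunctor Y y).map (kernel.ι (smulMor F t)))
      ((cancel_mono ((DerSch.stalkFunctor Y y).map (smulMor F t))).1 ?_)
    rw [← Functor.map_comp, kernel.condition, Functor.map_zero, zero_comp]
  · haveI := hb y hy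
    refine IsZero.of_epi_eq_zero ((DerSch.stalkFunctor Y y).map (cokernel.π (smulMor F t)))
      ((cancel_epi ((DerSch.stalkFunctor Y y).map (smulMor F t))).1 ?_)
    rw [← Functor.map_comp, cokernel.condition, Functor.map_zero, comp_zero]

theorem supp_iso (s : X ⟶ Y) [IsClosedImmersion s] {A B : Y.Modules} (e : A ≅ B) (h : K0Dev.Supp s A) :
    K0Dev.Supp s B :=
  (K0Dev.supp_iff s (K0Coh.isCoh_of_iso e h.1)).2 fun y hy =>
    ((K0Dev.supp_iff s h.1).1 h y hy).of_iso ((DerSch.stalkFunctor Y y).mapIso e).symm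

theorem classFun_supp (s : X ⟶ Y) [IsClosedImmersion s] :
    ClassFun (K0Dev.Supp s) (fun M => KZero.clSub (K0Dev.Supp s) M) where
  image {A B} f hA hB := by
    have hI : Coh.IsCoh (Abelian.image f) :=
      QC.isCoh_kernel hB.1 (QC.isCoh_cokernel hA.1.1 hB.1 f).1 (cokernel.π f)
    refine (K0Dev.supp_iff s hI).2 fun y hy => ?_
    haveI : Mono ((DerSch.stalkFunctor Y y).map (Abelian.image.ι f)) := inferInstance
    exact IsZero.of_mono ((DerSch.stalkFunctor Y y).map (Abelian.image.ι f))
      ((K0Dev.supp_iff s hB.1).1 hB y hy)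
  iso e h := supp_iso s e h
  q_iso e _ := K0Dev.cl_iso (fun _ _ e h => supp_iso s e h)
    (fun A hA => (K0Dev.supp_iff s (K0Coh.isCoh_of_isZero hA)).2 fun y _ => (DerSch.stalkFunctor Y y).map_isZero hA) e
  add hS h₁ h₂ h₃ := K0Dev.cl_add _ hS h₁ h₂ h₃

/-- Inverse image along the projection is injective. -/
theorem Sec.injective_pbK [(Scheme.Modules.pullback p).Additive] [PreservesFiniteLimits (Scheme.Modules.pullback p)]
    [PreservesFiniteColimits (Scheme.Modules.pullback p)] (h : Sec p s t) :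
    Function.Injective (pbK p) := by
  haveI := h.closed
  obtain ⟨φ, hφ⟩ := K0Dev.exists_equiv_closed s
  let q : Y.Modules → KZero.K0sub (K0Dev.Supp s) := fun F => KZero.clSub (K0Dev.Supp s) F
  let Φ : Y.Modules → SGA6.Kcoh X := fun F => φ.symm (q (cokernel (smulMor F t)) - q (kernel (smulMor F t)))
  have hadd : ∀ S : ShortComplex Y.Modules, S.ShortExact → Coh.IsCoh S.X₁ → Coh.IsCoh S.X₂ → Coh.IsCoh S.X₃ →
      Φ S.X₂ = Φ S.X₁ + Φ S.X₃ := fun S hS h₁ h₂ h₃ => by
    let v : S ⟶ S :=
      { τ₁ := smulMor S.X₁ t, τ₂ := smulMor S.X₂ t, τ₃ := smulMor S.X₃ t,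
        comm₁₂ := ThetaLib.smulMor_natural S.f t, comm₂₃ := ThetaLib.smulMor_natural S.g t }
    show φ.symm _ = φ.symm _ + φ.symm _
    rw [← map_add]
    exact congrArg φ.symm ((classFun_supp s).sub_add hS hS v (supp_ker_coker h h₁).1 (supp_ker_coker h h₂).1
      (supp_ker_coker h h₃).1 (supp_ker_coker h h₁).2 (supp_ker_coker h h₂).2 (supp_ker_coker h h₃).2)
  let ψ : SGA6.Kcoh Y →+ SGA6.Kcoh X := PnReg.liftSub (fun F => Φ F.1) fun S h₁ h₂ h₃ hS => hadd S hS h₁ h₂ h₃
  have hψ : ∀ F : Y.Modules, Coh.IsCoh F → ψ (KZero.clSub (fun M : Y.Modules => Coh.IsCoh M) F) = Φ F :=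
    fun F hF => PnReg.liftSub_cl _ _ hF
  refine Function.LeftInverse.injective (g := ψ) fun x => ?_
  refine DFunLike.congr_fun (K0Filt.hom_ext_cl _ (g := AddMonoidHom.id (SGA6.Kcoh X)) (f := ψ.comp (pbK p))
    fun M hM => ?_) x
  rw [AddMonoidHom.comp_apply, AddMonoidHom.id_apply]
  unfold pbK
  rw [K0Filt.mapSub_cl _ _ _ _ hM, hψ _ (QC.isCoh_pullback p hM)]
  let G := (Scheme.Modules.pullback p).obj M
  haveI := h.mono_smul M
  obtain ⟨g, w, hS⟩ := h.shortExact M
  haveI := hS.epi_g
  let ec : cokernel (smulMor G t) ≅ (Scheme.Modules.pushforward s).obj M :=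
    (cokernelIsCokernel _).coconePointUniqueUpToIso hS.gIsCokernel
  have hk : q (kernel (smulMor G t)) = 0 := by
    refine K0Dev.cl_zero ?_
    exact isZero_kernel_of_mono _
  show φ.symm (q (cokernel (smulMor G t)) - q (kernel (smulMor G t))) = _
  rw [hk, sub_zero, AddEquiv.symm_apply_eq, hφ M hM]
  exact (classFun_supp s).q_iso ec (supp_ker_coker h (QC.isCoh_pullback p hM)).2

end Groth.Agent.K0Hom
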