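import Groth.Agent.K0Hom.PbF
import Groth.Agent.TMul.FTQuot
import Groth.Agent.W7Exist.Tricky

/-!
Restriction of coherent modules to a flat preimmersion is a quotient by the modules vanishing there.
-/

set_option autoImplicit false
set_option linter.style.haveILetI false
set_option linter.unusedSectionVars false
set_option backward.isDefEq.respectTransparency false
set_option backward.isDefEq.respectTransparency.types false

universe u

open CategoryTheory CategoryTheory.Limits AlgebraicGeometry TopologicalSpace Opposite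

noncomputable section

attribute [local instance] Abelian.hasFiniteBiproducts

namespace Groth.Agent.K0Hom

variable {X W : Scheme.{u}} (j : W ⟶ X)

theorem pushStalk_bijective_pre [IsPreimmersion j] (A : W.Modules) (x : W) :
    Function.Bijective (KFlat.pushStalk j x A) := by
  have h := TopCat.Presheaf.stalkPushforward.stalkPushforward_iso_of_isInducing
    (C := AddCommGrpCat.{u}) j.isEmbedding.isInducing (DCoh.toP.obj A).presheaf x
  have hb := ConcreteCategory.bijective_of_isIso (C := AddCommGrpCat.{u})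
    (TopCat.Presheaf.stalkPushforward AddCommGrpCat.{u} j.base (DCoh.toP.obj A).presheaf x)
  suffices he : ∀ m, KFlat.pushStalk j x A m =
      (TopCat.Presheaf.stalkPushforward AddCommGrpCat.{u} j.base (DCoh.toP.obj A).presheaf x).hom m from
    ⟨fun a b hab => hb.1 ((he a).symm.trans (hab.trans (he b))), fun z => (hb.2 z).imp fun a ha => (he a).trans ha⟩
  intro m
  obtain ⟨U, hU, s, rfl⟩ := KFlat.exists_pgerm (DCoh.toP.obj ((Scheme.Modules.pushforward j).obj A)) (j.base x) m
  rw [KFlat.pushStalk_germ]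
  exact (ConcreteCategory.congr_hom
    (TopCat.Presheaf.stalkPushforward_germ AddCommGrpCat.{u} j.base (DCoh.toP.obj A).presheaf U x hU) s).symm

theorem kap_surjective_pre [IsPreimmersion j] (x : W) (G : X.Modules) : Function.Surjective (KFlat.kap j x G) := by
  have hφ : Function.Surjective (j.stalkMap x).hom := j.stalkMap_surjective x
  let V := (DerSch.stalkFunctor W x).obj ((Scheme.Modules.pullback j).obj G)
  let N : Submodule (W.presheaf.stalk x) V :=
    { carrier := Set.range (KFlat.kap j x G)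
      add_mem' := by
        rintro _ _ ⟨a, rfl⟩ ⟨b, rfl⟩
        exact ⟨a + b, map_add _ a b⟩
      zero_mem' := ⟨0, map_zero _⟩
      smul_mem' := by
        rintro r _ ⟨a, rfl⟩
        obtain ⟨r', rfl⟩ := hφ r
        exact ⟨r' • a, KFlat.kap_smul j x G r' a⟩ }
  have h : ModuleCat.ofHom N.mkQ = (0 : V ⟶ ModuleCat.of (W.presheaf.stalk x) (V ⧸ N)) :=
    KFlat.pull_stalk_ext j x G fun m => (Submodule.Quotient.mk_eq_zero N).mpr ⟨m, rfl⟩
  intro z
  have hz : Submodule.Quotient.mk (p := N) z = 0 := congrArg (fun g : V ⟶ _ => g.hom z) h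
  exact (Submodule.Quotient.mk_eq_zero N).mp hz

/-- Pulling back a direct image along a preimmersion gives the module back. -/
theorem isIso_counit_pre [IsPreimmersion j] (A : W.Modules) :
    IsIso ((Scheme.Modules.pullbackPushforwardAdjunction j).counit.app A) := by
  refine KFlat.isIso_of_stalks _ fun x => ?_
  rw [ConcreteCategory.isIso_iff_bijective]
  refine ⟨fun a b hab => ?_, fun z => ?_⟩
  · obtain ⟨a, rfl⟩ := kap_surjective_pre j x _ a
    obtain ⟨b, rfl⟩ := kap_surjective_pre j x _ b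
    exact congrArg _ ((pushStalk_bijective_pre j A x).1 hab)
  · obtain ⟨m, hm⟩ := (pushStalk_bijective_pre j A x).2 z
    exact ⟨KFlat.kap j x _ m, hm⟩

/-- The classes of the modules vanishing on the preimmersion. -/
def vanN : AddSubgroup (SGA6.Kcoh X) :=
  AddSubgroup.closure {x | ∃ F : X.Modules, Coh.IsCoh F ∧ IsZero ((Scheme.Modules.pullback j).obj F) ∧ x = clM F}

theorem cls_mem_vanN {F : X.Modules} (hF : Coh.IsCoh F) (h : IsZero ((Scheme.Modules.pullback j).obj F)) :
    clM F ∈ vanN j := AddSubgroup.subset_closure ⟨F, hF, h, rfl⟩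

variable [IsNoetherian X] [Flat j] [IsPreimmersion j] [QuasiCompact j] [QuasiSeparated j]

/-- Modules agreeing on the preimmersion have congruent classes. -/
theorem sub_mem_vanN {G F : X.Modules} (hG : Coh.IsCoh G) (hF : Coh.IsCoh F) (p : G ⟶ F)
    (hp : IsIso ((Scheme.Modules.pullback j).map p)) : clM G - clM F ∈ vanN j := by
  let R := Scheme.Modules.pullback j
  haveI := RelPCS.preservesFiniteLimits_pullback j
  haveI := (Scheme.Modules.pullbackPushforwardAdjunction j).leftAdjoint_preservesColimits.{0, 0}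
  haveI : R.Additive := Functor.additive_of_preserves_binary_products _
  have hk : IsZero (R.obj (kernel p)) := by
    haveI : Mono (R.map (kernel.ι p)) := inferInstance
    refine IsZero.of_mono_eq_zero (R.map (kernel.ι p)) ((cancel_mono (R.map p)).1 ?_)
    rw [← R.map_comp, kernel.condition, R.map_zero, zero_comp]
  have hc : IsZero (R.obj (cokernel p)) := by
    haveI : Epi (R.map (cokernel.π p)) := inferInstance
    refine IsZero.of_epi_eq_zero (R.map (cokernel.π p)) ((cancel_epi (R.map p)).1 ?_)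
    rw [← R.map_comp, cokernel.condition, R.map_zero, comp_zero]
  have cK := QC.isCoh_kernel hG hF.1 p
  have cC := QC.isCoh_cokernel hG.1 hF p
  have cI : Coh.IsCoh (Abelian.image p) := QC.isCoh_kernel hF cC.1 (cokernel.π p)
  have cJ : Coh.IsCoh (Abelian.coimage p) := QC.isCoh_cokernel cK.1 hG (kernel.ι p)
  have e1 : clM G = clM (kernel p) + clM (Abelian.coimage p) :=
    K0Dev.cl_add _ (S := ShortComplex.mk (kernel.ι p) (cokernel.π (kernel.ι p)) (cokernel.condition _))
      { exact := ShortComplex.exact_of_g_is_cokernel _ (cokernelIsCokernel _)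
        mono_f := inferInstanceAs (Mono (kernel.ι p))
        epi_g := inferInstanceAs (Epi (cokernel.π (kernel.ι p))) } cK hG cJ
  have e2 : clM F = clM (Abelian.image p) + clM (cokernel p) :=
    K0Dev.cl_add _ (S := ShortComplex.mk (kernel.ι (cokernel.π p)) (cokernel.π p) (kernel.condition _))
      { exact := ShortComplex.exact_of_f_is_kernel _ (kernelIsKernel _)
        mono_f := inferInstanceAs (Mono (kernel.ι (cokernel.π p)))
        epi_g := inferInstanceAs (Epi (cokernel.π p)) } cI hF cC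
  rw [e1, e2, clM_iso (Abelian.coimageIsoImage p) cJ,
    show ∀ a b c : SGA6.Kcoh X, a + b - (b + c) = a - c from fun a b c => by abel]
  exact sub_mem (cls_mem_vanN j cK hk) (cls_mem_vanN j cC hc)

/-- Isomorphic restrictions give congruent classes. -/
theorem sub_mem_of_pullIso {F₁ F₂ : X.Modules} (h₁ : Coh.IsCoh F₁) (h₂ : Coh.IsCoh F₂)
    (φ : (Scheme.Modules.pullback j).obj F₁ ≅ (Scheme.Modules.pullback j).obj F₂) :
    clM F₁ - clM F₂ ∈ vanN j := by
  let R := Scheme.Modules.pullback j
  let adj := Scheme.Modules.pullbackPushforwardAdjunction j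
  haveI := RelPCS.preservesFiniteLimits_pullback j
  haveI := (Scheme.Modules.pullbackPushforwardAdjunction j).leftAdjoint_preservesColimits.{0, 0}
  haveI : R.Additive := Functor.additive_of_preserves_binary_products _
  haveI : ∀ A, IsIso (adj.counit.app A) := isIso_counit_pre j
  haveI hu : ∀ G : X.Modules, IsIso (R.map (adj.unit.app G)) := fun G =>
    IsIso.of_isIso_fac_right (adj.left_triangle_components G)
  let Q := (Scheme.Modules.pushforward j).obj (R.obj F₂)
  have hQ : Coh.IsQCoh Q := by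
    haveI : (R.obj F₂).IsQuasicoherent := (QC.isCoh_pullback j h₂).1
    exact QC.isQCoh_pushforward (M := R.obj F₂) j
  let a : F₁ ⟶ Q := adj.homEquiv F₁ (R.obj F₂) φ.hom
  let b : F₂ ⟶ Q := adj.unit.app F₂
  have hB : Coh.IsCoh (F₁ ⊞ F₂) := W7Exist.isCoh_biprod h₁ h₂
  let d : F₁ ⊞ F₂ ⟶ Q := biprod.desc a (-b)
  have hG := QC.isCoh_kernel hB hQ d
  let p₁ : kernel d ⟶ F₁ := kernel.ι d ≫ biprod.fst
  let p₂ : kernel d ⟶ F₂ := kernel.ι d ≫ biprod.snd
  have hd : p₁ ≫ a = p₂ ≫ b := by
    have h := kernel.condition d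
    simp only [d, biprod.desc_eq, Preadditive.comp_add, Preadditive.neg_comp, Preadditive.comp_neg,
      ← Category.assoc] at h
    exact eq_of_sub_eq_zero (by rw [sub_eq_add_neg]; exact h)
  have hsq : IsPullback p₁ p₂ a b := ⟨⟨hd⟩, ⟨PullbackCone.IsLimit.mk hd
    (fun s => kernel.lift d (biprod.lift s.fst s.snd) (by simp [d, biprod.lift_desc, s.condition]))
    (fun s => by simp [p₁]) (fun s => by simp [p₂]) (fun s m hm₁ hm₂ => by
      refine (cancel_mono (kernel.ι d)).1 ?_
      rw [kernel.lift_ι]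
      apply biprod.hom_ext
      · rw [biprod.lift_fst, Category.assoc]; exact hm₁
      · rw [biprod.lift_snd, Category.assoc]; exact hm₂)⟩⟩
  have hR := hsq.map R
  haveI : IsIso (R.map b) := hu F₂
  have hRa : IsIso (R.map a) := by
    have h := adj.homEquiv_unit (X := F₁) (Y := R.obj F₂) (f := φ.hom)
    show IsIso (R.map (adj.homEquiv F₁ (R.obj F₂) φ.hom))
    rw [h, R.map_comp]
    haveI : IsIso (R.map (adj.unit.app F₁)) := hu F₁
    infer_instance
  have hp₁ : IsIso (R.map p₁) := hR.isIso_fst_of_isIso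
  have hp₂ : IsIso (R.map p₂) := by
    haveI := hp₁
    haveI := hRa
    haveI : IsIso (R.map p₂ ≫ R.map b) := by rw [← R.map_comp, ← hd, R.map_comp]; infer_instance
    exact IsIso.of_isIso_comp_right (R.map p₂) (R.map b)
  have e := sub_mem (sub_mem_vanN j hG h₂ p₂ hp₂) (sub_mem_vanN j hG h₁ p₁ hp₁)
  have heq : clM F₁ - clM F₂ = (clM (kernel d) - clM F₂) - (clM (kernel d) - clM F₁) := by abel
  rw [heq]
  exact e

/-- Every coherent module on the preimmersion extends. -/
theorem exists_coh_extend {M : W.Modules} (hM : Coh.IsCoh M) :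
    ∃ F : X.Modules, Coh.IsCoh F ∧ Nonempty ((Scheme.Modules.pullback j).obj F ≅ M) := by
  let R := Scheme.Modules.pullback j
  let adj := Scheme.Modules.pullbackPushforwardAdjunction j
  haveI := RelPCS.preservesFiniteLimits_pullback j
  haveI : ∀ A, IsIso (adj.counit.app A) := isIso_counit_pre j
  haveI : M.IsQuasicoherent := hM.1
  obtain ⟨F, φ, hq, hf, hφ⟩ := TMul.exists_ft_quotient (G := M) j hM.2 inferInstance
  let a : F ⟶ (Scheme.Modules.pushforward j).obj M := adj.homEquiv F M φ
  have hQ : Coh.IsQCoh ((Scheme.Modules.pushforward j).obj M) := QC.isQCoh_pushforward (M := M) j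
  have hK := QC.isCoh_kernel (X := X) ⟨hq, hf⟩ hQ a
  have hI : Coh.IsCoh (Abelian.coimage a) := QC.isCoh_cokernel hK.1 ⟨hq, hf⟩ (kernel.ι a)
  let ι : Abelian.coimage a ⟶ (Scheme.Modules.pushforward j).obj M :=
    (Abelian.coimageIsoImage a).hom ≫ Abelian.image.ι a
  have hι : cokernel.π (kernel.ι a) ≫ ι = a := by
    simp [ι, Abelian.coimageImageComparison]
  let c : R.obj (Abelian.coimage a) ⟶ M := R.map ι ≫ adj.counit.app M
  haveI : Mono ι := inferInstanceAs (Mono ((Abelian.coimageIsoImage a).hom ≫ Abelian.image.ι a))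
  haveI : Mono (R.map ι) := inferInstance
  haveI : Mono c := mono_comp _ _
  have hc : R.map (cokernel.π (kernel.ι a)) ≫ c = φ := by
    show _ ≫ R.map ι ≫ _ = _
    rw [← Category.assoc, ← R.map_comp, hι]
    exact (adj.homEquiv_counit (X := F) (Y := M) (g := a)).symm.trans ((adj.homEquiv F M).symm_apply_apply φ)
  haveI : Epi c := epi_of_epi_fac hc
  exact ⟨_, hI, ⟨@asIso _ _ _ _ c (isIso_of_mono_of_epi c)⟩⟩

/-- Restriction presents the classes on the preimmersion as a quotient. -/
theorem exists_hom_quot : ∃ ψ : SGA6.Kcoh W →+ SGA6.Kcoh X ⧸ vanN j,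
    ∀ (F : X.Modules) (N : W.Modules), Coh.IsCoh F → Coh.IsCoh N → ((Scheme.Modules.pullback j).obj F ≅ N) →
      ψ (clM N) = QuotientAddGroup.mk' (vanN j) (clM F) := by
  let R := Scheme.Modules.pullback j
  let adj := Scheme.Modules.pullbackPushforwardAdjunction j
  haveI := RelPCS.preservesFiniteLimits_pullback j
  haveI := (Scheme.Modules.pullbackPushforwardAdjunction j).leftAdjoint_preservesColimits.{0, 0}
  haveI : R.Additive := Functor.additive_of_preserves_binary_products _
  haveI : ∀ A, IsIso (adj.counit.app A) := isIso_counit_pre j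
  haveI hu : ∀ G : X.Modules, IsIso (R.map (adj.unit.app G)) := fun G =>
    IsIso.of_isIso_fac_right (adj.left_triangle_components G)
  choose E hE hEi using fun M : Subtype (fun M : W.Modules => Coh.IsCoh M) => exists_coh_extend j M.2
  let q := QuotientAddGroup.mk' (vanN j)
  have hwd : ∀ F₁ F₂ : X.Modules, Coh.IsCoh F₁ → Coh.IsCoh F₂ → (R.obj F₁ ≅ R.obj F₂) → q (clM F₁) = q (clM F₂) :=
    fun F₁ F₂ h₁ h₂ φ => sub_eq_zero.1 ((map_sub q _ _).symm.trans
      ((QuotientAddGroup.eq_zero_iff _).2 (sub_mem_of_pullIso j h₁ h₂ φ)))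
  refine ⟨PnReg.liftSub (fun M => q (clM (E M))) fun S c₁ c₂ c₃ hS => ?_, fun F N hF hN φ => ?_⟩
  · obtain ⟨a₁⟩ := hEi ⟨S.X₁, c₁⟩
    obtain ⟨a₂⟩ := hEi ⟨S.X₂, c₂⟩
    obtain ⟨a₃⟩ := hEi ⟨S.X₃, c₃⟩
    haveI := hS.mono_f
    haveI := hS.epi_g
    have hB := hE ⟨S.X₂, c₂⟩
    let r : E ⟨S.X₂, c₂⟩ ⟶ (Scheme.Modules.pushforward j).obj S.X₃ :=
      adj.homEquiv _ _ (a₂.hom ≫ S.g)
    have hQ : Coh.IsQCoh ((Scheme.Modules.pushforward j).obj S.X₃) := by
      haveI : S.X₃.IsQuasicoherent := c₃.1
      exact QC.isQCoh_pushforward (M := S.X₃) j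
    have cK := QC.isCoh_kernel hB hQ r
    have cC : Coh.IsCoh (Abelian.coimage r) := QC.isCoh_cokernel cK.1 hB (kernel.ι r)
    have hr : R.map r ≫ adj.counit.app S.X₃ = a₂.hom ≫ S.g :=
      (adj.homEquiv_counit (X := E ⟨S.X₂, c₂⟩) (Y := S.X₃) (g := r)).symm.trans
        ((adj.homEquiv _ _).symm_apply_apply _)
    let e₁ : R.obj (kernel r) ≅ S.X₁ :=
      PreservesKernel.iso R r ≪≫ kernel.mapIso (R.map r) S.g a₂ (asIso (adj.counit.app S.X₃)) hr ≪≫
        (kernelIsKernel S.g).conePointUniqueUpToIso hS.fIsKernel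
    let e₃ : R.obj (Abelian.coimage r) ≅ S.X₃ :=
      PreservesCokernel.iso R (kernel.ι r) ≪≫
        cokernel.mapIso (R.map (kernel.ι r)) S.f e₁ a₂ (by
          simp [e₁, IsLimit.conePointUniqueUpToIso]
          erw [Fork.IsLimit.lift_ι]
          simp) ≪≫
        (cokernelIsCokernel S.f).coconePointUniqueUpToIso hS.gIsCokernel
    have h := congrArg q (K0Dev.cl_add (fun M : X.Modules => Coh.IsCoh M)
      (S := ShortComplex.mk (kernel.ι r) (cokernel.π (kernel.ι r)) (cokernel.condition _))
      { exact := ShortComplex.exact_of_g_is_cokernel _ (cokernelIsCokernel _)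
        mono_f := inferInstanceAs (Mono (kernel.ι r))
        epi_g := inferInstanceAs (Epi (cokernel.π (kernel.ι r))) } cK hB cC)
    rw [map_add] at h
    rw [← hwd _ _ cK (hE ⟨S.X₁, c₁⟩) (e₁ ≪≫ a₁.symm), ← hwd _ _ cC (hE ⟨S.X₃, c₃⟩) (e₃ ≪≫ a₃.symm)]
    exact h
  · refine (PnReg.liftSub_cl (P := fun M : W.Modules => Coh.IsCoh M) _ _ hN).trans ?_
    obtain ⟨a⟩ := hEi ⟨N, hN⟩
    exact hwd _ _ (hE _) hF (a ≪≫ φ.symm)

end Groth.Agent.K0Hom
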