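import Groth.Agent.K0Hom.Surj

/-!
Homotopy invariance of the Grothendieck group of coherent modules.
-/

set_option autoImplicit false
set_option linter.style.haveILetI false
set_option linter.unusedSectionVars false
set_option backward.isDefEq.respectTransparency false
set_option backward.isDefEq.respectTransparency.types false

universe u

open CategoryTheory CategoryTheory.Limits AlgebraicGeometry TopologicalSpace Opposite AffineSpace

noncomputable section

namespace Groth.Agent.K0Hom

variable {m n : Type u} (e : Option m ≃ n) (S : Scheme.{u})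

/-- A line over the affine space is the affine space with one more variable. -/
def lineIso : 𝔸(PUnit.{u + 1}; 𝔸(m; S)) ≅ 𝔸(n; S) where
  hom := homOfVector ((𝔸(PUnit.{u + 1}; 𝔸(m; S)) ↘ 𝔸(m; S)) ≫ (𝔸(m; S) ↘ S)) fun i =>
    (e.symm i).elim (coord 𝔸(m; S) PUnit.unit)
      fun j => (𝔸(PUnit.{u + 1}; 𝔸(m; S)) ↘ 𝔸(m; S)).appTop.hom (coord S j)
  inv := homOfVector (proj e S) fun _ => coord S (e none)
  hom_inv_id := by
    refine AffineSpace.hom_ext ?_ fun _ => ?_
    · rw [Category.assoc, homOfVector_over, Category.id_comp]
      refine AffineSpace.hom_ext ?_ fun j => ?_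
      · rw [Category.assoc, reindex_over, homOfVector_over]
      · rw [Scheme.Hom.comp_appTop, CommRingCat.comp_apply, reindex_appTop_coord, homOfVector_appTop_coord]
        simp
    · rw [Scheme.Hom.comp_appTop, CommRingCat.comp_apply, homOfVector_appTop_coord, homOfVector_appTop_coord]
      simp
  inv_hom_id := by
    refine AffineSpace.hom_ext ?_ fun i => ?_
    · rw [Category.assoc, homOfVector_over, ← Category.assoc, homOfVector_over, reindex_over, Category.id_comp]
    · rw [Scheme.Hom.comp_appTop, CommRingCat.comp_apply, homOfVector_appTop_coord]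
      rcases h : e.symm i with _ | j
      · have hi : e none = i := by rw [← h, Equiv.apply_symm_apply]
        rw [← hi]
        show _ = coord S (e none)
        exact homOfVector_appTop_coord _ _ _
      · have hi : e (some j) = i := by rw [← h, Equiv.apply_symm_apply]
        rw [← hi]
        show (homOfVector (proj e S) fun _ => coord S (e none)).appTop.hom
          ((𝔸(PUnit.{u + 1}; 𝔸(m; S)) ↘ 𝔸(m; S)).appTop.hom (coord S j)) = coord S (e (some j))
        rw [← CommRingCat.comp_apply, ← Scheme.Hom.comp_appTop, homOfVector_over, reindex_appTop_coord]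
        rfl

theorem lineIso_proj : (lineIso e S).inv ≫ (𝔸(PUnit.{u + 1}; 𝔸(m; S)) ↘ 𝔸(m; S)) = proj e S :=
  homOfVector_over _ _

theorem flat_proj : Flat (proj e S) := by
  rw [← lineIso_proj]
  infer_instance

/-- Adding a variable is bijective. -/
theorem bijective_step [IsNoetherian S] [Finite m] [Finite n] :
    haveI := flat_proj e S
    Function.Bijective (pbF (proj e S)) := by
  haveI := flat_proj e S
  haveI := isNoetherian_affineSpace m S
  haveI := isNoetherian_affineSpace n S
  haveI := isNoetherian_affineSpace PUnit.{u + 1} 𝔸(m; S)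
  refine ⟨(sec_hyp e S).injective_pbF, fun y => ?_⟩
  obtain ⟨x, hx⟩ := surjective_A1 𝔸(m; S) (pbF (lineIso e S).hom y)
  refine ⟨x, (bijective_pbF_iso (lineIso e S)).1 ?_⟩
  rw [← hx, ← pbF_comp]
  refine pbF_congr ?_ x
  rw [← lineIso_proj e S, Iso.hom_inv_id_assoc]

/-- Homotopy invariance. -/
theorem bijective_affineSpace [IsNoetherian S] :
    ∀ r : ℕ, Function.Bijective (pbF (𝔸(ULift.{u} (Fin r); S) ↘ S))
  | 0 => by
    haveI := isNoetherian_affineSpace (ULift.{u} (Fin 0)) S
    exact bijective_pbF_iso (asIso (𝔸(ULift.{u} (Fin 0); S) ↘ S))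
  | r + 1 => by
    haveI := isNoetherian_affineSpace (ULift.{u} (Fin r)) S
    haveI := isNoetherian_affineSpace (ULift.{u} (Fin (r + 1))) S
    let e : Option (ULift.{u} (Fin r)) ≃ ULift.{u} (Fin (r + 1)) :=
      (Equiv.optionCongr Equiv.ulift).trans ((finSuccEquiv r).symm.trans Equiv.ulift.symm)
    haveI := flat_proj e S
    have he : (pbF (𝔸(ULift.{u} (Fin (r + 1)); S) ↘ S) : _ → _) =
        pbF (proj e S) ∘ pbF (𝔸(ULift.{u} (Fin r); S) ↘ S) :=
      funext fun x => by
        rw [Function.comp_apply, ← pbF_comp]
        exact pbF_congr (reindex_over _ _).symm x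
    rw [he]
    exact (bijective_step e S).comp (bijective_affineSpace r)

end Groth.Agent.K0Hom
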