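import Groth.Agent.K0Filt.Localization
import Groth.Agent.KFlat.Pullback
import Groth.Agent.ThetaLib.Scalar
import Groth.Agent.WeakAssLib.Stalk

/-!
A section whose image is the zero locus of one regular function: on inverse images the multiplication by the
function is injective, with cokernel the direct image along the section.
-/

set_option autoImplicit false
set_option linter.style.haveILetI false
set_option linter.unusedSectionVars false
set_option backward.isDefEq.respectTransparency false
set_option backward.isDefEq.respectTransparency.types false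

universe u

open CategoryTheory CategoryTheory.Limits AlgebraicGeometry TopologicalSpace Opposite TensorProduct
open Groth.Agent.LBDesc (smulMor smulMor_app)
open Groth.Agent.WeakAssLib (mgerm mgerm_smul mgerm_res)

noncomputable section

attribute [local instance] Abelian.hasFiniteBiproducts

namespace Groth.Agent.K0Hom

/-- An endomorphism of a ring split off by a retraction onto the base stays injective after tensoring. -/
theorem isSMulRegular_tensor {R S M : Type u} [CommRing R] [CommRing S] [Algebra R S] [AddCommGroup M]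
    [Module R M] {t : S} (ht : IsSMulRegular S t) (ψ : S →+* R) (hψ : ∀ a, ψ (algebraMap R S a) = a)
    (hker : RingHom.ker ψ ≤ Ideal.span {t}) (h0 : ψ t = 0) : IsSMulRegular (S ⊗[R] M) t := by
  have hd : ∀ z : S, ∃ q : S, t * q = z - algebraMap R S (ψ z) := fun z => by
    obtain ⟨q, hq⟩ := Ideal.mem_span_singleton'.1
      (hker (show z - algebraMap R S (ψ z) ∈ RingHom.ker ψ by rw [RingHom.mem_ker, map_sub, hψ, sub_self]))
    exact ⟨q, by rw [mul_comm, hq]⟩
  choose q hq using hd
  have cancel : ∀ a b : S, t * a = t * b → a = b := fun a b h => ht h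
  let L : S →ₗ[R] S :=
    { toFun := q
      map_add' := fun a b => cancel _ _ (by rw [mul_add, hq, hq, hq, map_add, map_add]; ring)
      map_smul' := fun r a => cancel _ _ (by
        rw [RingHom.id_apply, Algebra.smul_def, Algebra.smul_def, hq, map_mul, hψ, map_mul]
        linear_combination -(algebraMap R S r) * hq a) }
  have hL : ∀ a, L (t * a) = a := fun a => cancel _ _ (by
    show t * q (t * a) = _
    rw [hq, map_mul, h0, zero_mul, map_zero, sub_zero])
  have key : ∀ z : S ⊗[R] M, (L.rTensor M) (t • z) = z := fun z => by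
    induction z using TensorProduct.induction_on with
    | zero => rw [smul_zero, map_zero]
    | tmul a m => rw [TensorProduct.smul_tmul', LinearMap.rTensor_tmul, smul_eq_mul, hL]
    | add a b ha hb => rw [smul_add, map_add, ha, hb]
  exact fun a b h => by
    have := congrArg (L.rTensor M) h
    simpa only [key] using this

variable {X Y : Scheme.{u}}

/-- The stalk of the multiplication by a function. -/
theorem st_smulMor (G : Y.Modules) (t : Γ(Y, ⊤)) (y : Y) (m : ((DerSch.stalkFunctor Y y).obj G : Type u)) :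
    ((DerSch.stalkFunctor Y y).map (smulMor G t)).hom m =
      ((Y.presheaf.germ ⊤ y trivial).hom t : Y.presheaf.stalk y) • m := by
  obtain ⟨U, hy, s, rfl⟩ := G.presheaf.exists_germ_eq (x := y) m
  refine (WeakAssLib.stalkHom_germ (smulMor G t) hy s).trans ?_
  rw [smulMor_app, mgerm_smul]
  congr 1
  exact Y.presheaf.germ_res_apply _ _ _ _

/-- The section cuts out the zero locus of the regular function. -/
structure Sec (p : Y ⟶ X) (s : X ⟶ Y) (t : Γ(Y, ⊤)) : Prop where
  sect : s ≫ p = 𝟙 X
  closed : IsClosedImmersion s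
  unit_of : ∀ y, y ∉ Set.range s → IsUnit ((Y.presheaf.germ ⊤ y trivial).hom t : Y.presheaf.stalk y)
  zero : s.appTop.hom t = 0
  ker : ∀ x, RingHom.ker (s.stalkMap x).hom ≤
    Ideal.span {((Y.presheaf.germ ⊤ (s x) trivial).hom t : Y.presheaf.stalk (s x))}
  reg : ∀ x, IsSMulRegular (Y.presheaf.stalk (s x))
    ((Y.presheaf.germ ⊤ (s x) trivial).hom t : Y.presheaf.stalk (s x))

variable {p : Y ⟶ X} {s : X ⟶ Y} {t : Γ(Y, ⊤)}

theorem Sec.stalk_zero (h : Sec p s t) (x : X) :
    (s.stalkMap x).hom ((Y.presheaf.germ ⊤ (s x) trivial).hom t) = 0 := by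
  refine (Scheme.Hom.germ_stalkMap_apply s ⊤ x trivial t).trans ?_
  show (X.presheaf.germ _ x _).hom (s.appTop.hom t) = 0
  rw [h.zero, map_zero]

theorem Sec.basicOpen (h : Sec p s t) : (Y.basicOpen t : Set Y) = (Set.range s)ᶜ := by
  ext y
  refine ⟨fun hy ⟨x, hx⟩ => ?_, fun hy => (Scheme.mem_basicOpen Y t y (Set.mem_univ _)).2 (h.unit_of y hy)⟩
  subst hx
  have hu := ((Scheme.mem_basicOpen Y t (s x) (Set.mem_univ _)).1 hy).map (s.stalkMap x).hom
  rw [h.stalk_zero] at hu
  exact not_isUnit_zero hu

theorem Sec.reg_pull (h : Sec p s t) (M : X.Modules) (y : Y) :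
    IsSMulRegular ((DerSch.stalkFunctor Y y).obj ((Scheme.Modules.pullback p).obj M) : Type u)
      ((Y.presheaf.germ ⊤ y trivial).hom t : Y.presheaf.stalk y) := by
  by_cases hy : y ∈ Set.range s
  · obtain ⟨x, rfl⟩ := hy
    let R := X.presheaf.stalk (p (s x))
    let S := Y.presheaf.stalk (s x)
    letI : Algebra R S := (p.stalkMap (s x)).hom.toAlgebra
    let c : R ⟶ X.presheaf.stalk x := p.stalkMap (s x) ≫ s.stalkMap x
    haveI : IsIso c := by
      show IsIso (p.stalkMap (s x) ≫ s.stalkMap x)
      rw [← Scheme.Hom.stalkMap_comp, Scheme.Hom.stalkMap_congr_hom _ _ h.sect x]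
      haveI : IsIso ((𝟙 X : X ⟶ X).stalkMap x) := inferInstance
      exact IsIso.comp_isIso' inferInstance inferInstance
    let ψ : S →+* R := (s.stalkMap x ≫ inv c).hom
    have hreg : IsSMulRegular (S ⊗[R] ((DerSch.stalkFunctor X (p (s x))).obj M : Type u))
        ((Y.presheaf.germ ⊤ (s x) trivial).hom t : S) := by
      refine isSMulRegular_tensor (h.reg x) ψ (fun a => ?_) ?_ ?_
      · show (inv c).hom ((s.stalkMap x).hom ((p.stalkMap (s x)).hom a)) = a
        exact congr($(IsIso.hom_inv_id c).hom a)
      · intro z hz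
        refine h.ker x ?_
        rw [RingHom.mem_ker] at hz ⊢
        have h2 := congrArg c.hom hz
        rw [map_zero] at h2
        rw [← h2]
        exact (congr($(IsIso.inv_hom_id c).hom ((s.stalkMap x).hom z))).symm
      · show (inv c).hom ((s.stalkMap x).hom _) = 0
        rw [h.stalk_zero, map_zero]
    exact ((LinearEquiv.isSMulRegular_congr
      ((KFlat.pullStalkIso p (s x)).app M).toLinearEquiv _).2 hreg)
  · exact (h.unit_of y hy).isSMulRegular _

theorem Sec.mono_smul (h : Sec p s t) (M : X.Modules) :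
    Mono (smulMor ((Scheme.Modules.pullback p).obj M) t) := by
  refine Preadditive.mono_of_isZero_kernel _ ((K0Dev.isZero_iff_stalks _).2 fun y => ?_)
  let F := DerSch.stalkFunctor Y y
  haveI : Mono (F.map (smulMor ((Scheme.Modules.pullback p).obj M) t)) :=
    (ModuleCat.mono_iff_injective _).2 fun a b hab => h.reg_pull M y (by
      rw [st_smulMor, st_smulMor] at hab
      exact hab)
  refine IsZero.of_mono_eq_zero (F.map (kernel.ι (smulMor ((Scheme.Modules.pullback p).obj M) t)))
    ((cancel_mono (F.map (smulMor ((Scheme.Modules.pullback p).obj M) t))).1 ?_)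
  rw [← F.map_comp, kernel.condition, F.map_zero, zero_comp]

theorem Sec.killed (h : Sec p s t) {C : Y.Modules} (hC : smulMor C t = 0) : ClSub.KilledByIdeal s.ker C := by
  intro U a ha m
  haveI := h.closed
  have ha' : (s.app U.1).hom a = 0 := by
    rw [Scheme.Hom.ker_apply] at ha
    exact ha
  refine WeakAssLib.ext_germ C _ fun y hy => ?_
  rw [mgerm_smul]
  have hz : ∀ w : C.presheaf.stalk y, ((Y.presheaf.germ ⊤ y trivial).hom t : Y.presheaf.stalk y) • w = 0 :=
    fun w => by
      rw [← st_smulMor, hC, Functor.map_zero]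
      rfl
  by_cases hr : y ∈ Set.range s
  · obtain ⟨x, rfl⟩ := hr
    obtain ⟨c, hc⟩ := Ideal.mem_span_singleton'.1 (h.ker x (show (Y.presheaf.germ U.1 (s x) hy).hom a ∈
      RingHom.ker (s.stalkMap x).hom by
        rw [RingHom.mem_ker]
        refine (Scheme.Hom.germ_stalkMap_apply s U.1 x hy a).trans ?_
        show (X.presheaf.germ _ x _).hom ((s.app U.1).hom a) = 0
        rw [ha', map_zero]))
    rw [← hc, mul_smul, hz, smul_zero]
  · obtain ⟨u, hu⟩ := h.unit_of y hr
    have h2 := hz (((u⁻¹ : (Y.presheaf.stalk y)ˣ) : Y.presheaf.stalk y) •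
      ((Y.presheaf.germ U.1 y hy).hom a • mgerm C hy m))
    rw [← hu, ← mul_smul, Units.mul_inv, one_smul] at h2
    exact h2

/-- Pulled back modules restrict back to themselves. -/
def Sec.backIso (h : Sec p s t) (M : X.Modules) :
    (Scheme.Modules.pullback s).obj ((Scheme.Modules.pullback p).obj M) ≅ M :=
  (Scheme.Modules.pullbackComp s p).app M ≪≫ (Scheme.Modules.pullbackCongr h.sect).app M ≪≫
    (Scheme.Modules.pullbackId X).app M

theorem Sec.shortExact (h : Sec p s t) (M : X.Modules) :
    ∃ (g : (Scheme.Modules.pullback p).obj M ⟶ (Scheme.Modules.pushforward s).obj M)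
      (w : smulMor ((Scheme.Modules.pullback p).obj M) t ≫ g = 0), (ShortComplex.mk _ g w).ShortExact := by
  haveI := h.closed
  haveI := GrothSS.preservesFiniteColimits_push s
  haveI : PreservesColimitsOfSize.{0, 0} (Scheme.Modules.pullback s) :=
    (Scheme.Modules.pullbackPushforwardAdjunction s).leftAdjoint_preservesColimits
  let G := (Scheme.Modules.pullback p).obj M
  let g₀ : G ⟶ (K0Dev.ii s).obj G := (K0Dev.un s).app G
  have w₀ : smulMor G t ≫ g₀ = 0 := by
    show smulMor G t ≫ (K0Dev.un s).app G = 0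
    refine ((K0Dev.un s).naturality (smulMor G t)).trans ?_
    have hz : (Scheme.Modules.pullback s).map (smulMor G t) = 0 := by
      rw [ThetaLib.pullback_map_smulMor, h.zero]
      refine ThetaLib.hom_ext_sections fun V m => ?_
      rw [smulMor_app, map_zero, zero_smul]
      rfl
    show (K0Dev.un s).app G ≫ (Scheme.Modules.pushforward s).map ((Scheme.Modules.pullback s).map _) = 0
    rw [hz]
    simp
  let C := cokernel (smulMor G t)
  have hC : smulMor C t = 0 := by
    rw [← cancel_epi (cokernel.π (smulMor G t)), comp_zero, ← ThetaLib.smulMor_natural]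
    exact cokernel.condition _
  haveI hiso : IsIso ((K0Dev.un s).app C) := (K0Dev.killed_iff s).2 (h.killed hC)
  let d : C ⟶ (K0Dev.ii s).obj G := cokernel.desc _ g₀ w₀
  haveI : Epi d := by
    haveI : Epi g₀ := K0Dev.epi_unit s G
    exact epi_of_epi_fac (cokernel.π_desc _ g₀ w₀)
  have hd : d ≫ (K0Dev.ii s).map (cokernel.π (smulMor G t)) = (K0Dev.un s).app C := by
    rw [← cancel_epi (cokernel.π (smulMor G t)), ← Category.assoc, cokernel.π_desc]
    exact ((K0Dev.un s).naturality (cokernel.π (smulMor G t))).symm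
  haveI : Mono d := mono_of_mono_fac hd
  haveI : IsIso d := isIso_of_mono_of_epi d
  let e : (K0Dev.ii s).obj G ≅ (Scheme.Modules.pushforward s).obj M :=
    (Scheme.Modules.pushforward s).mapIso (h.backIso M)
  have w₁ : smulMor G t ≫ g₀ ≫ e.hom = 0 := by rw [← Category.assoc, w₀, zero_comp]
  refine ⟨g₀ ≫ e.hom, w₁, ?_⟩
  haveI := h.mono_smul M
  have se : (ShortComplex.mk (smulMor G t) (cokernel.π (smulMor G t)) (cokernel.condition _)).ShortExact :=
    { exact := ShortComplex.exact_cokernel _
      mono_f := inferInstanceAs (Mono (smulMor G t))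
      epi_g := inferInstanceAs (Epi (cokernel.π _)) }
  refine ShortComplex.shortExact_of_iso (S₂ := ShortComplex.mk _ (g₀ ≫ e.hom) w₁)
    (ShortComplex.isoMk (S₁ := ShortComplex.mk (smulMor G t) (cokernel.π (smulMor G t)) (cokernel.condition _))
      (Iso.refl _) (Iso.refl _) (asIso d ≪≫ e) ?_ ?_) se
  · show 𝟙 _ ≫ smulMor G t = smulMor G t ≫ 𝟙 _
    simp
  · show 𝟙 _ ≫ g₀ ≫ e.hom = cokernel.π (smulMor G t) ≫ d ≫ e.hom
    rw [Category.id_comp, ← Category.assoc, cokernel.π_desc]

/-- The image of the section has no class. -/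
theorem Sec.cls_push [IsNoetherian X] [IsNoetherian Y] (h : Sec p s t) {M : X.Modules} (hM : Coh.IsCoh M) :
    KZero.clSub (fun N : Y.Modules => Coh.IsCoh N) ((Scheme.Modules.pushforward s).obj M) = 0 := by
  haveI := h.closed
  obtain ⟨g, w, hS⟩ := h.shortExact M
  have hG := QC.isCoh_pullback p hM
  have he := K0Dev.cl_add (P := fun N : Y.Modules => Coh.IsCoh N) hS hG hG (K0Dev.supp_push s hM).1
  exact (add_eq_left.1 he.symm)

end Groth.Agent.K0Hom
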