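import Groth.Agent.K0Hom.Chart

/-!
Removing the zero section of the affine line changes nothing in the Grothendieck group of coherent modules.
-/

set_option autoImplicit false
set_option linter.style.haveILetI false
set_option backward.isDefEq.respectTransparency false
set_option backward.isDefEq.respectTransparency.types false

universe u

open CategoryTheory CategoryTheory.Limits AlgebraicGeometry TopologicalSpace Opposite

noncomputable section

namespace Groth.Agent.K0Hom

theorem isNoetherian_affineSpace (n : Type u) [Finite n] (X : Scheme.{u}) [IsNoetherian X] :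
    IsNoetherian 𝔸(n; X) := by
  haveI : IsLocallyNoetherian 𝔸(n; X) := LocallyOfFiniteType.isLocallyNoetherian (𝔸(n; X) ↘ X)
  haveI : CompactSpace 𝔸(n; X) := QuasiCompact.compactSpace_of_compactSpace (𝔸(n; X) ↘ X)
  exact {}

variable {X Y U : Scheme.{u}} [IsNoetherian X] [IsNoetherian Y] {p : Y ⟶ X} {s : X ⟶ Y} {t : Γ(Y, ⊤)}

theorem Sec.hpush (h : Sec p s t) (M : X.Modules) (hM : Coh.IsCoh M) :
    Coh.IsCoh ((Scheme.Modules.pushforward s).obj M) :=
  haveI := h.closed
  (K0Dev.supp_push s hM).1

theorem Sec.range_eq_bot (h : Sec p s t) :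
    haveI := h.closed
    K0Filt.Rg s h.hpush = ⊥ := by
  haveI := h.closed
  refine le_bot_iff.1 ?_
  rintro x ⟨y, rfl⟩
  rw [AddSubgroup.mem_bot]
  refine DFunLike.congr_fun (K0Filt.hom_ext_cl _ (g := (0 : _ →+ KZero.K0sub (fun N : Y.Modules => Coh.IsCoh N)))
    fun M hM => ?_) y
  rw [K0Filt.mapSub_cl _ _ _ _ hM]
  exact h.cls_push hM

/-- Removing the image of the section is bijective on classes. -/
theorem Sec.resK_bijective [IsNoetherian U] (h : Sec p s t) (j : U ⟶ Y) [IsOpenImmersion j]
    (hU : Set.range j = (Y.basicOpen t : Set Y)) : Function.Bijective (K0Filt.resK j) := by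
  haveI := h.closed
  let V : Y.Opens := Y.basicOpen t
  haveI : IsNoetherian V.toScheme := LocImmFT.isNoetherian_opens V
  obtain ⟨hs, hk⟩ := K0Filt.localization s h.hpush V h.basicOpen (K0Filt.isCoh_restrict V.ι)
  have hb : Function.Bijective (K0Filt.resK V.ι) :=
    ⟨(AddMonoidHom.ker_eq_bot_iff _).1 (hk.trans h.range_eq_bot), hs⟩
  let w : U ≅ V.toScheme := IsOpenImmersion.isoOfRangeEq j V.ι (hU.trans (by rw [Scheme.Opens.range_ι]))
  have hw : w.hom ≫ V.ι = j := IsOpenImmersion.isoOfRangeEq_hom_fac _ _ _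
  have e : (K0Filt.resK j : _ → _) = K0Filt.resK w.hom ∘ K0Filt.resK V.ι :=
    funext fun x => K0Filt.resK_comp w.hom V.ι j hw x
  rw [e]
  exact (K0Filt.resK_bijective w).comp hb

end Groth.Agent.K0Hom
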